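import Groth.Agent.Lib.RootDatum.Basic
import Mathlib.Data.List.Perm.Basic
import Mathlib.Order.WellFounded
import Mathlib.LinearAlgebra.RootSystem.Base

/-!
Closed sets of roots, positive systems, their simple systems, and coefficients along a simple system.
-/

set_option linter.unusedSectionVars false
set_option linter.style.haveILetI false

namespace GrothLib.RootDatum

open Function Set Module RootPairing

variable {ι R M N : Type*} [CommRing R] [AddCommGroup M] [Module R M] [AddCommGroup N] [Module R N]
  (P : RootPairing ι R M N)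

theorem root_mem_natSpan {S : Set ι} {i : ι} (h : i ∈ S) : P.root i ∈ RootD.natSpan P S :=
  AddSubmonoid.subset_closure ⟨i, h, rfl⟩

theorem list_sum_mem_natSpan {S : Set ι} {l : List ι} (h : ∀ a ∈ l, a ∈ S) :
    (l.map P.root).sum ∈ RootD.natSpan P S :=
  list_sum_mem fun x hx => by
    obtain ⟨a, ha, rfl⟩ := List.mem_map.mp hx
    exact root_mem_natSpan P (h a ha)

theorem exists_list_of_mem_natSpan {S : Set ι} {x : M} (h : x ∈ RootD.natSpan P S) :
    ∃ l : List ι, (∀ a ∈ l, a ∈ S) ∧ x = (l.map P.root).sum := by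
  induction h using AddSubmonoid.closure_induction with
  | mem y hy =>
    obtain ⟨a, ha, rfl⟩ := hy
    exact ⟨[a], by simpa using ha, by simp⟩
  | zero => exact ⟨[], by simp, by simp⟩
  | add x y _ _ hx hy =>
    obtain ⟨l, hl, rfl⟩ := hx
    obtain ⟨l', hl', rfl⟩ := hy
    exact ⟨l ++ l', fun a ha => (List.mem_append.mp ha).elim (hl a) (hl' a), by simp⟩

theorem natSpan_mono {S T : Set ι} (h : S ⊆ T) : RootD.natSpan P S ≤ RootD.natSpan P T :=
  AddSubmonoid.closure_mono (Set.image_mono h)

theorem natSpan_le_span (S : Set ι) :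
    (RootD.natSpan P S : Set M) ⊆ Submodule.span ℤ (P.root '' S) := fun _ hx => by
  induction hx using AddSubmonoid.closure_induction with
  | mem y hy => exact Submodule.subset_span hy
  | zero => exact Submodule.zero_mem _
  | add x y _ _ hx hy => exact Submodule.add_mem _ hx hy

theorem exists_list_mem_pos (l : List ι) (f : ι → ℤ) (h : 0 < (l.map f).sum) :
    ∃ a ∈ l, 0 < f a := by
  by_contra! hc
  induction l with
  | nil => simp at h
  | cons a t ih =>
    simp only [List.map_cons, List.sum_cons] at h
    have := hc a (by simp)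
    exact ih (by omega) fun b hb => hc b (by simp [hb])

theorem list_sum_erase [DecidableEq ι] {G : Type*} [AddCommMonoid G] (f : ι → G) {l : List ι} {a : ι}
    (h : a ∈ l) : (l.map f).sum = f a + ((l.erase a).map f).sum :=
  (((List.perm_cons_erase h).map f).sum_eq).trans (by simp)

section Crystallographic

variable [Finite ι] [P.IsCrystallographic] [CharZero R] [IsDomain R]

variable {P}

theorem exists_pos_pairing_of_root_eq {k : ι} {l : List ι}
    (hk : P.root k = (l.map P.root).sum) : ∃ a ∈ l, 0 < pz P a k := by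
  apply exists_list_mem_pos
  rw [← pz_list_sum P hk k, pz_same]
  norm_num

/-- A root which is a sum of roots of a closed set lies in it. -/
theorem mem_of_closed_of_mem_natSpan {S : Set ι} (hS : RootD.IsClosedSub P S) {k : ι}
    (hk : P.root k ∈ RootD.natSpan P S) : k ∈ S := by
  classical
  obtain ⟨l, hl, hlk⟩ := exists_list_of_mem_natSpan P hk
  clear hk
  induction hn : l.length using Nat.strongRecOn generalizing l k with
  | ind n ih =>
    obtain ⟨a, ha, hpos⟩ := exists_pos_pairing_of_root_eq hlk
    rcases eq_or_ne k a with rfl | hne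
    · exact hl k ha
    obtain ⟨k', hk'⟩ := exists_root_sub P ((pz_pos_symm P).mp hpos) hne
    have hk'S : k' ∈ S := by
      refine ih (l.erase a).length ?_ (l.erase a) (fun b hb => hl b (List.mem_of_mem_erase hb)) ?_ rfl
      · rw [List.length_erase_of_mem ha]
        have := List.length_pos_of_mem ha
        omega
      · rw [hk', hlk, list_sum_erase (fun b => P.root b) ha]; abel
    exact hS (hl a ha) hk'S (by rw [hk']; abel)

/-- A closed set without opposite roots has no non-empty list whose sum is killed by all coroots. -/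
theorem nil_of_pairing_sum_eq_zero {S : Set ι} (hd : ∀ ⦃i⦄, i ∈ S → nr P i ∉ S)
    (hc : RootD.IsClosedSub P S) {l : List ι} (hl : ∀ a ∈ l, a ∈ S)
    (h0 : ∀ q, (l.map fun a => pz P a q).sum = 0) : l = [] := by
  classical
  induction hn : l.length using Nat.strongRecOn generalizing l with
  | ind n ih =>
    rcases l with _ | ⟨a, t⟩
    · rfl
    exfalso
    have ha0 := h0 a
    simp only [List.map_cons, List.sum_cons, pz_same] at ha0
    obtain ⟨b, hb, hbneg⟩ : ∃ b ∈ t, 0 < -pz P b a := by
      refine exists_list_mem_pos t _ ?_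
      have hneg : (t.map fun b => -pz P b a).sum = -(t.map fun b => pz P b a).sum := by
        clear * -
        induction t with
        | nil => simp
        | cons b t ih => simp only [List.map_cons, List.sum_cons, ih]; ring
      omega
    have haS : a ∈ S := hl a (by simp)
    have hbS : b ∈ S := hl b (by simp [hb])
    have hne : b ≠ nr P a := fun h => hd haS (h ▸ hbS)
    obtain ⟨k, hk⟩ := exists_root_add P (show pz P b a < 0 by omega) hne
    have hkS := hc hbS haS hk
    have := ih (k :: t.erase b).length ?_ (l := k :: t.erase b) ?_ ?_ rfl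
    · simp at this
    · rw [← hn, List.length_cons, List.length_cons, List.length_erase_of_mem hb]
      have := List.length_pos_of_mem hb
      omega
    · intro x hx
      rcases List.mem_cons.mp hx with rfl | hx
      · exact hkS
      · exact hl x (List.mem_cons_of_mem _ (List.mem_of_mem_erase hx))
    · intro q
      have := h0 q
      simp only [List.map_cons, List.sum_cons] at this ⊢
      rw [list_sum_erase (fun x => pz P x q) hb] at this
      rw [pz_add P hk q]
      linarith

theorem nil_of_sum_eq_zero {S : Set ι} (hd : ∀ ⦃i⦄, i ∈ S → nr P i ∉ S)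
    (hc : RootD.IsClosedSub P S) {l : List ι} (hl : ∀ a ∈ l, a ∈ S) (h0 : (l.map P.root).sum = 0) :
    l = [] :=
  nil_of_pairing_sum_eq_zero hd hc hl fun q => Int.cast_injective (α := R) (by
    rw [← coroot'_list_sum, h0, map_zero, Int.cast_zero])

theorem isPosSys_closed {S : Set ι} (hS : RootD.IsPosSys P S) : RootD.IsClosedSub P S :=
  fun i j k hi hj h => hS.sat 1 one_pos
    (by rw [one_smul, h]; exact add_mem (root_mem_natSpan P hi) (root_mem_natSpan P hj))

theorem isPosSys_of_closed {S : Set ι} (hd : ∀ ⦃i⦄, i ∈ S → nr P i ∉ S)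
    (hcov : ∀ i, i ∈ S ∨ nr P i ∈ S) (hc : RootD.IsClosedSub P S) : RootD.IsPosSys P S := by
  refine ⟨hd, hcov, fun k n hn hk => (hcov k).resolve_right fun hneg => ?_⟩
  obtain ⟨l, hl, hlk⟩ := exists_list_of_mem_natSpan P hk
  have := nil_of_sum_eq_zero hd hc (l := List.replicate n (nr P k) ++ l) ?_ ?_
  · simp at this; omega
  · intro a ha
    rcases List.mem_append.mp ha with ha | ha
    · exact (List.eq_of_mem_replicate ha) ▸ hneg
    · exact hl a ha
  · simp [← hlk, List.map_replicate]

theorem isPosSys_of_hom {G : Type*} [AddCommGroup G] [LinearOrder G] [IsOrderedAddMonoid G]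
    (f : ι → G) (hne : ∀ i, f i ≠ 0) (hneg : ∀ i, f (nr P i) = -f i)
    (hadd : ∀ i j k, P.root k = P.root i + P.root j → f k = f i + f j) :
    RootD.IsPosSys P {i | 0 < f i} := by
  refine isPosSys_of_closed (fun i (hi : 0 < f i) (hi' : 0 < f _) => ?_) (fun i => ?_) ?_
  · rw [hneg] at hi'
    exact (neg_pos.mp hi').not_gt hi
  · rcases lt_trichotomy (f i) 0 with h | h | h
    · exact Or.inr (show 0 < f _ by rw [hneg]; exact neg_pos.mpr h)
    · exact absurd h (hne i)
    · exact Or.inl h
  · exact fun i j k (hi : 0 < f i) (hj : 0 < f j) h =>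
      show 0 < f k by rw [hadd i j k h]; exact add_pos hi hj

theorem isPosSys_not_mem_iff {S : Set ι} (hS : RootD.IsPosSys P S) (i : ι) :
    i ∉ S ↔ nr P i ∈ S :=
  ⟨(hS.cover i).resolve_left, fun h h' => hS.disjoint h' h⟩

theorem isPosSys_eq_of_subset {S S' : Set ι} (hS : RootD.IsPosSys P S) (hS' : RootD.IsPosSys P S')
    (h : S ⊆ S') : S = S' :=
  h.antisymm fun i hi => (hS.cover i).resolve_right fun hn => hS'.disjoint hi (h hn)

variable (P) in
/-- The elements of `S` which are not sums of two elements of `S`. -/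
def simpleOf (S : Set ι) : Set ι :=
  {k | k ∈ S ∧ ∀ i ∈ S, ∀ j ∈ S, P.root k ≠ P.root i + P.root j}

theorem simpleOf_subset (S : Set ι) : simpleOf P S ⊆ S := fun _ h => h.1

theorem mem_natSpan_simpleOf {S : Set ι} (hS : RootD.IsPosSys P S) {k : ι} (hk : k ∈ S) :
    P.root k ∈ RootD.natSpan P (simpleOf P S) := by
  let r : ι → ι → Prop := fun i k =>
    ∃ l : List ι, l ≠ [] ∧ (∀ a ∈ l, a ∈ S) ∧ P.root k = P.root i + (l.map P.root).sum
  have htrans : IsTrans ι r := ⟨fun a b c => by
    rintro ⟨l, hl0, hl, h⟩ ⟨l', hl0', hl', h'⟩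
    refine ⟨l ++ l', by simp [hl0], fun x hx => (List.mem_append.mp hx).elim (hl x) (hl' x), ?_⟩
    rw [h', h, List.map_append, List.sum_append, add_assoc]⟩
  have hirr : Std.Irrefl r := ⟨fun a => by
    rintro ⟨l, hl0, hl, h⟩
    exact hl0 (nil_of_sum_eq_zero hS.disjoint (isPosSys_closed hS) hl (by simpa using h.symm))⟩
  induction k using (Finite.wellFounded_of_trans_of_irrefl r).induction with
  | _ k ih =>
    by_cases hkΔ : k ∈ simpleOf P S
    · exact root_mem_natSpan P hkΔ
    have : ∃ i ∈ S, ∃ j ∈ S, P.root k = P.root i + P.root j := by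
      simpa [simpleOf, hk] using hkΔ
    obtain ⟨i, hi, j, hj, hij⟩ := this
    rw [hij]
    exact add_mem (ih i ⟨[j], by simp, by simpa using hj, by simpa using hij⟩ hi)
      (ih j ⟨[i], by simp, by simpa using hi, by simpa [add_comm] using hij⟩ hj)

theorem pz_le_zero_of_mem_simpleOf {S : Set ι} (hS : RootD.IsPosSys P S) {i j : ι}
    (hi : i ∈ simpleOf P S) (hj : j ∈ simpleOf P S) (hne : i ≠ j) : pz P i j ≤ 0 := by
  by_contra! h
  obtain ⟨k, hk⟩ := exists_root_sub P h hne
  rcases hS.cover k with hkS | hkS
  · exact hi.2 j hj.1 k hkS (by rw [hk]; abel)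
  · exact hj.2 i hi.1 _ hkS (by rw [root_reflectionPerm, RootPairing.reflection_apply_self, hk]; abel)

open scoped Classical in
theorem linearIndepOn_simpleOf {S : Set ι} (hS : RootD.IsPosSys P S) :
    LinearIndepOn ℤ P.root (simpleOf P S) := by
  haveI := Fintype.ofFinite ι
  set Δ := simpleOf P S with hΔ
  rw [linearIndepOn_iff]
  intro c hc hc0
  have hsupp : ↑c.support ⊆ Δ := (Finsupp.mem_supported ℤ c).mp hc
  have out : ∀ a ∉ Δ, c a = 0 := fun a ha => by
    simpa using fun h => ha (hsupp (Finsupp.mem_support_iff.mpr h))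
  -- the positive and negative parts have the same pairings with all coroots
  let v : (ι → ℤ) → ι → ℤ := fun g q => ∑ a, g a * pz P a q
  have hpn : ∀ q, v (fun a => max (c a) 0) q = v (fun a => max (-c a) 0) q := fun q => by
    rw [← sub_eq_zero]
    apply Int.cast_injective (α := R)
    rw [Int.cast_zero, ← map_zero (P.coroot' q), ← hc0, coroot'_linearCombination,
      Finsupp.sum_fintype _ _ (by simp), ← Finset.sum_sub_distrib]
    congr 1
    refine Finset.sum_congr rfl fun a _ => ?_
    rw [← sub_mul]
    congr 1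
    dsimp only
    omega
  have hnull : ∀ q, v (fun a => max (c a) 0) q = 0 := by
    have hle : ∑ q, v (fun a => max (c a) 0) q * v (fun a => max (c a) 0) q ≤ 0 := by
      calc ∑ q, v (fun a => max (c a) 0) q * v (fun a => max (c a) 0) q
          = ∑ q, (∑ a, max (c a) 0 * pz P a q) * (∑ b, max (-c b) 0 * pz P b q) :=
            Finset.sum_congr rfl fun q _ => by rw [show (∑ b, max (-c b) 0 * pz P b q) =
              v (fun a => max (-c a) 0) q from rfl, ← hpn q]
        _ = ∑ a, ∑ b, max (c a) 0 * max (-c b) 0 * qf P a b := by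
            simp_rw [Finset.sum_mul_sum, qf_def, Finset.mul_sum]
            rw [Finset.sum_comm]
            refine Finset.sum_congr rfl fun a _ => ?_
            rw [Finset.sum_comm]
            exact Finset.sum_congr rfl fun b _ => Finset.sum_congr rfl fun q _ => by ring
        _ ≤ 0 := Finset.sum_nonpos fun a _ => Finset.sum_nonpos fun b _ => by
            rcases le_or_gt (c a) 0 with h | h
            · simp [max_eq_right h]
            rcases le_or_gt (-c b) 0 with h' | h'
            · simp [max_eq_right h']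
            refine mul_nonpos_of_nonneg_of_nonpos (by positivity) ?_
            have haΔ : a ∈ Δ := by_contra fun hn => by simp [out a hn] at h
            have hbΔ : b ∈ Δ := by_contra fun hn => by simp [out b hn] at h'
            have hne : a ≠ b := by rintro rfl; omega
            have := pz_le_zero_of_mem_simpleOf hS haΔ hbΔ hne
            have := two_qf P a b
            have := qf_self_pos P b
            nlinarith
    intro q
    have h := (Finset.sum_eq_zero_iff_of_nonneg (fun r _ => mul_self_nonneg _)).mp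
      (le_antisymm hle (Finset.sum_nonneg fun r _ => mul_self_nonneg _)) q (Finset.mem_univ q)
    exact mul_self_eq_zero.mp h
  -- a non-negative combination of elements of `Δ` killed by all coroots is trivial
  have key : ∀ g : ι → ℤ, (∀ a, a ∉ Δ → g a ≤ 0) → (∀ q, v (fun a => max (g a) 0) q = 0) →
      ∀ a, g a ≤ 0 := by
    intro g hg hv
    let l : List ι :=
      (Finset.univ : Finset ι).toList.flatMap fun a => List.replicate (g a).toNat a
    have hlnil : l = [] := by
      refine nil_of_pairing_sum_eq_zero hS.disjoint (isPosSys_closed hS) ?_ ?_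
      · intro a ha
        simp only [l, List.mem_flatMap, List.mem_replicate] at ha
        obtain ⟨b, -, hb, rfl⟩ := ha
        by_contra hn
        have := hg a fun h => hn h.1
        omega
      · intro q
        simp only [l, List.flatMap_def, List.map_flatten, List.sum_flatten, List.map_map,
          Function.comp_def, List.map_replicate, List.sum_replicate]
        rw [Finset.sum_map_toList]
        simpa [v, Int.toNat_eq_max] using hv q
    intro a
    by_contra! h
    have : a ∈ l := by
      simp only [l, List.mem_flatMap, Finset.mem_toList, Finset.mem_univ, List.mem_replicate,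
        true_and]
      exact ⟨a, by omega, rfl⟩
    simp [hlnil] at this
  ext a
  have h1 := key c (fun a ha => (out a ha).le) hnull a
  have h2 := key (fun a => -c a) (fun a ha => by simp [out a ha])
    (fun q => by rw [← hpn q]; exact hnull q) a
  simp only [Finsupp.coe_zero, Pi.zero_apply]
  omega

variable (P)

/-- A system of simple roots, with linear independence over `ℤ`. -/
structure IsSimple (Δ : Set ι) : Prop where
  linInd : LinearIndepOn ℤ P.root Δ
  mem_or_neg_mem : ∀ i : ι, P.root i ∈ RootD.natSpan P Δ ∨ -P.root i ∈ RootD.natSpan P Δ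

theorem isSimple_simpleOf {S : Set ι} (hS : RootD.IsPosSys P S) : IsSimple P (simpleOf P S) :=
  ⟨linearIndepOn_simpleOf hS, fun i => (hS.cover i).imp (mem_natSpan_simpleOf hS)
    (fun h => by simpa using mem_natSpan_simpleOf hS h)⟩

theorem IsSimple.of_isSimpleSys {Δ : Set ι} (h : RootD.IsSimpleSys P Δ) : IsSimple P Δ :=
  ⟨LinearIndependent.restrict_scalars' ℤ h.linInd, h.mem_or_neg_mem⟩

theorem IsSimple.of_base (b : P.Base) : IsSimple P (b.support : Set ι) :=
  ⟨LinearIndependent.restrict_scalars' ℤ b.linearIndepOn_root, b.root_mem_or_neg_mem⟩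

theorem isSimpleSys_iff {ι M N : Type*} [AddCommGroup M] [AddCommGroup N]
    (P : RootPairing ι ℤ M N) (Δ : Set ι) : RootD.IsSimpleSys P Δ ↔ IsSimple P Δ :=
  ⟨fun h => ⟨h.linInd, h.mem_or_neg_mem⟩, fun h => ⟨h.linInd, h.mem_or_neg_mem⟩⟩

variable {P}

namespace IsSimple

open Finsupp

variable {Δ : Set ι} (h : IsSimple P Δ)
include h

theorem exists_coeff (k : ι) :
    ∃ c : ι →₀ ℤ, ↑c.support ⊆ Δ ∧ linearCombination ℤ P.root c = P.root k := by
  have hk : P.root k ∈ Submodule.span ℤ (P.root '' Δ) := by
    rcases h.mem_or_neg_mem k with hk | hk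
    · exact natSpan_le_span P Δ hk
    · simpa using Submodule.neg_mem _ (natSpan_le_span P Δ hk)
  obtain ⟨c, hc, hck⟩ := (Finsupp.mem_span_image_iff_linearCombination ℤ).mp hk
  exact ⟨c, (Finsupp.mem_supported ℤ c).mp hc, hck⟩

/-- The coefficients of a root along a simple system. -/
noncomputable def coeff (k : ι) : ι →₀ ℤ := (h.exists_coeff k).choose

theorem coeff_support (k : ι) : ↑(h.coeff k).support ⊆ Δ := (h.exists_coeff k).choose_spec.1

theorem linearCombination_coeff (k : ι) : linearCombination ℤ P.root (h.coeff k) = P.root k :=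
  (h.exists_coeff k).choose_spec.2

theorem coeff_notMem {k a : ι} (ha : a ∉ Δ) : h.coeff k a = 0 :=
  Finsupp.notMem_support_iff.mp fun h' => ha (h.coeff_support k h')

theorem eq_of_linearCombination_eq {c d : ι →₀ ℤ} (hc : ↑c.support ⊆ Δ) (hd : ↑d.support ⊆ Δ)
    (heq : linearCombination ℤ P.root c = linearCombination ℤ P.root d) : c = d := by
  have hmem : c - d ∈ supported ℤ ℤ Δ :=
    sub_mem ((mem_supported ℤ c).mpr hc) ((mem_supported ℤ d).mpr hd)
  exact sub_eq_zero.mp (linearIndepOn_iff.mp h.linInd _ hmem (by rw [map_sub, heq, sub_self]))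

theorem eq_coeff {c : ι →₀ ℤ} {k : ι} (hc : ↑c.support ⊆ Δ)
    (heq : linearCombination ℤ P.root c = P.root k) : c = h.coeff k :=
  h.eq_of_linearCombination_eq hc (h.coeff_support k) (heq.trans (h.linearCombination_coeff k).symm)

theorem coeff_self {i : ι} (hi : i ∈ Δ) : h.coeff i = single i 1 := by
  classical
  exact (h.eq_coeff (by simpa [Finsupp.support_single] using hi) (by simp)).symm

theorem coeff_add {i j k : ι} (hk : P.root k = P.root i + P.root j) :
    h.coeff k = h.coeff i + h.coeff j := by
  classical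
  refine (h.eq_coeff ?_ (by rw [map_add, h.linearCombination_coeff, h.linearCombination_coeff, hk])).symm
  refine (Finset.coe_subset.mpr Finsupp.support_add).trans ?_
  rw [Finset.coe_union]
  exact union_subset (h.coeff_support i) (h.coeff_support j)

theorem coeff_nr (k : ι) : h.coeff (nr P k) = -h.coeff k :=
  (h.eq_coeff (by rw [Finsupp.support_neg]; exact h.coeff_support k)
    (by rw [map_neg, h.linearCombination_coeff, root_nr])).symm

theorem coeff_smul {k k' : ι} {z : ℤ} (hk : P.root k' = z • P.root k) :
    h.coeff k' = z • h.coeff k :=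
  (h.eq_coeff ((Finset.coe_subset.mpr Finsupp.support_smul).trans (h.coeff_support k))
    (by rw [map_smul, h.linearCombination_coeff, hk])).symm

theorem coeff_ne_zero (k : ι) : h.coeff k ≠ 0 := fun h0 =>
  root_ne_zero P k (by rw [← h.linearCombination_coeff k, h0, map_zero])

theorem mem_natSpan_iff_coeff {Δ' : Set ι} (hsub : Δ' ⊆ Δ) (k : ι) :
    P.root k ∈ RootD.natSpan P Δ' ↔
      (∀ a, 0 ≤ h.coeff k a) ∧ ∀ a, a ∉ Δ' → h.coeff k a = 0 := by
  classical
  constructor
  · intro hk
    obtain ⟨l, hl, hlk⟩ := exists_list_of_mem_natSpan P hk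
    let c : ι →₀ ℤ := (l.map fun a => single a (1 : ℤ)).sum
    have hlc : linearCombination ℤ P.root c = (l.map P.root).sum := by
      simp only [c, map_list_sum, List.map_map]
      exact congrArg List.sum (List.map_congr_left fun a _ => by simp)
    have happ : ∀ a, c a = (l.count a : ℤ) := fun a => by
      clear hl hlk hlc
      induction l with
      | nil => simp [c]
      | cons b t ih =>
        simp only [c, List.map_cons, List.sum_cons, Finsupp.add_apply] at ih ⊢
        rw [ih, List.count_cons, Finsupp.single_apply]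
        by_cases hb : b = a <;> simp [hb, add_comm]
    have hc : h.coeff k = c := by
      refine (h.eq_coeff ?_ (hlc.trans hlk.symm)).symm
      intro a ha
      apply hsub (hl a ?_)
      have := Finsupp.mem_support_iff.mp ha
      rw [happ, Ne, Int.natCast_eq_zero] at this
      exact List.count_pos_iff.mp (Nat.pos_of_ne_zero this)
    rw [hc]
    exact ⟨fun a => by rw [happ]; positivity, fun a ha => by
      rw [happ, List.count_eq_zero.mpr fun h' => ha (hl a h'), Nat.cast_zero]⟩
  · rintro ⟨h0, hout⟩
    rw [← h.linearCombination_coeff k, linearCombination_apply]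
    refine sum_mem fun a ha => ?_
    have haΔ : a ∈ Δ' := by_contra fun hn => Finsupp.mem_support_iff.mp ha (hout a hn)
    obtain ⟨n, hn⟩ := Int.eq_ofNat_of_zero_le (h0 a)
    simp only [hn, natCast_zsmul]
    exact nsmul_mem (root_mem_natSpan P haΔ) n

theorem mem_posOf_iff {k : ι} : k ∈ RootD.posOf P Δ ↔ ∀ a, 0 ≤ h.coeff k a :=
  (h.mem_natSpan_iff_coeff subset_rfl k).trans ⟨fun h' => h'.1, fun h' => ⟨h', fun _ => h.coeff_notMem⟩⟩

theorem coeff_nonneg_or_nonpos (k : ι) :
    (∀ a, 0 ≤ h.coeff k a) ∨ (∀ a, h.coeff k a ≤ 0) := by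
  rcases h.mem_or_neg_mem k with hk | hk
  · exact Or.inl (h.mem_posOf_iff.mp hk)
  · have : nr P k ∈ RootD.posOf P Δ := show P.root _ ∈ RootD.natSpan P Δ by simpa using hk
    rw [h.mem_posOf_iff] at this
    exact Or.inr fun a => by simpa [h.coeff_nr] using this a

theorem coeff_nonneg_of_pos {k a : ι} (ha : 0 < h.coeff k a) : ∀ b, 0 ≤ h.coeff k b :=
  (h.coeff_nonneg_or_nonpos k).resolve_right fun hn => (hn a).not_gt ha

theorem isPosSys_posOf : RootD.IsPosSys P (RootD.posOf P Δ) := by
  refine isPosSys_of_closed (fun i hi hi' => ?_) (fun i => ?_) ?_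
  · rw [h.mem_posOf_iff] at hi hi'
    refine h.coeff_ne_zero i (Finsupp.ext fun a => le_antisymm ?_ (hi a))
    simpa [h.coeff_nr] using hi' a
  · exact (h.mem_or_neg_mem i).imp id fun hi => show P.root _ ∈ RootD.natSpan P Δ by simpa using hi
  · exact fun i j k (hi : P.root i ∈ RootD.natSpan P Δ) (hj : P.root j ∈ RootD.natSpan P Δ) hk =>
      show P.root k ∈ RootD.natSpan P Δ by rw [hk]; exact add_mem hi hj

theorem subset_posOf : Δ ⊆ RootD.posOf P Δ := fun _ hi => root_mem_natSpan P hi

theorem simpleOf_posOf : simpleOf P (RootD.posOf P Δ) = Δ := by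
  classical
  ext k
  constructor
  · rintro ⟨hk, hind⟩
    obtain ⟨l, hl, hlk⟩ := exists_list_of_mem_natSpan P hk
    obtain ⟨a, ha, hpos⟩ := exists_pos_pairing_of_root_eq hlk
    rcases eq_or_ne k a with rfl | hne
    · exact hl k ha
    obtain ⟨k', hk'⟩ := exists_root_sub P ((pz_pos_symm P).mp hpos) hne
    refine absurd (show P.root k = P.root a + P.root k' by rw [hk']; abel)
      (hind a (h.subset_posOf (hl a ha)) k' ?_)
    change P.root k' ∈ RootD.natSpan P Δ
    rw [hk', hlk, list_sum_erase (fun b => P.root b) ha, add_sub_cancel_left]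
    exact list_sum_mem_natSpan P fun b hb => hl b (List.mem_of_mem_erase hb)
  · intro hk
    refine ⟨h.subset_posOf hk, fun i hi j hj hij => ?_⟩
    rw [h.mem_posOf_iff] at hi hj
    have hsum := h.coeff_add hij
    rw [h.coeff_self hk] at hsum
    have e : ∀ a, single k (1 : ℤ) a = h.coeff i a + h.coeff j a := fun a => by rw [hsum]; rfl
    have : ∀ a, a ≠ k → h.coeff i a = 0 ∧ h.coeff j a = 0 := fun a ha => by
      have := e a
      rw [single_eq_of_ne ha] at this
      constructor <;> linarith [hi a, hj a]
    have ek := e k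
    rw [single_eq_same] at ek
    have hi' : h.coeff i k ≠ 0 := fun h0 => h.coeff_ne_zero i (Finsupp.ext fun a => by
      rcases eq_or_ne a k with rfl | ha
      exacts [h0, (this a ha).1])
    have hj' : h.coeff j k ≠ 0 := fun h0 => h.coeff_ne_zero j (Finsupp.ext fun a => by
      rcases eq_or_ne a k with rfl | ha
      exacts [h0, (this a ha).2])
    have := hi k
    have := hj k
    omega

theorem isIndiv {i : ι} (hi : i ∈ Δ) : RootD.IsIndiv P i := by
  rw [isIndiv_iff]
  intro j hj
  have := congrArg (fun c : ι →₀ ℤ => c i) (h.coeff_smul hj)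
  simp [h.coeff_self hi] at this
  omega

theorem pz_nonpos {i j : ι} (hi : i ∈ Δ) (hj : j ∈ Δ) (hne : i ≠ j) : pz P i j ≤ 0 :=
  pz_le_zero_of_mem_simpleOf h.isPosSys_posOf (by rw [h.simpleOf_posOf]; exact hi)
    (by rw [h.simpleOf_posOf]; exact hj) hne

end IsSimple

theorem posOf_simpleOf {S : Set ι} (hS : RootD.IsPosSys P S) :
    RootD.posOf P (simpleOf P S) = S :=
  Set.ext fun k => ⟨fun hk => mem_of_closed_of_mem_natSpan (isPosSys_closed hS)
    (natSpan_mono P (simpleOf_subset S) hk), mem_natSpan_simpleOf hS⟩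

theorem IsSimple.posOf_eq_of_subset {Δ S : Set ι} (h : IsSimple P Δ) (hS : RootD.IsPosSys P S)
    (hsub : Δ ⊆ S) : RootD.posOf P Δ = S :=
  isPosSys_eq_of_subset h.isPosSys_posOf hS fun _ hk =>
    mem_of_closed_of_mem_natSpan (isPosSys_closed hS) (natSpan_mono P hsub hk)

theorem IsSimple.eq_simpleOf {Δ S : Set ι} (h : IsSimple P Δ) (hS : RootD.IsPosSys P S)
    (hsub : Δ ⊆ S) : Δ = simpleOf P S := by
  rw [← h.posOf_eq_of_subset hS hsub, h.simpleOf_posOf]

end Crystallographic

end GrothLib.RootDatum
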