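import Groth.Agent.Lib.RootDatum.Weyl

/-!
Bridge between `RootPairing.Base` and simple systems.
-/

set_option linter.unusedSectionVars false

namespace GrothLib.RootDatum

open Function Set Module RootPairing

variable {ι R M N : Type*} [CommRing R] [AddCommGroup M] [Module R M] [AddCommGroup N] [Module R N]
  {P : RootPairing ι R M N} [Finite ι] [P.IsCrystallographic] [CharZero R] [IsDomain R]

theorem base_height_eq (b : P.Base) (i : ι) : b.height i = (IsSimple.of_base P b).ht i := by
  set h := IsSimple.of_base P b
  have hroot : P.root i = ∑ j ∈ b.support, h.coeff i j • P.root j := by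
    rw [← h.linearCombination_coeff i, Finsupp.linearCombination_apply]
    refine Finset.sum_subset (fun a ha => h.coeff_support i ha) fun a _ ha => ?_
    simp [Finsupp.notMem_support_iff.mp ha]
  rw [RootPairing.Base.height_eq_sum hroot, IsSimple.ht, Finsupp.sum]
  exact (Finset.sum_subset (fun a ha => h.coeff_support i ha) fun a _ ha =>
    Finsupp.notMem_support_iff.mp ha).symm

theorem isPos_iff_mem_posOf (b : P.Base) (i : ι) :
    b.IsPos i ↔ i ∈ RootD.posOf P (b.support : Set ι) := by
  rw [RootPairing.Base.isPos_iff, base_height_eq, (IsSimple.of_base P b).mem_posOf_iff_ht]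

theorem setOf_isPos (b : P.Base) : {i | b.IsPos i} = RootD.posOf P (b.support : Set ι) :=
  Set.ext (isPos_iff_mem_posOf b)

end GrothLib.RootDatum
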