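import Groth.Agent.Lib.RootDatum.Length
import Groth.Agent.Lib.RootDatum.Base

/-!
Sums of pairings over a positive system (the weight `2ρ`).
-/

set_option linter.unusedSectionVars false
set_option linter.style.haveILetI false

namespace GrothLib.RootDatum

open Function Set Module RootPairing

variable {ι R M N : Type*} [CommRing R] [AddCommGroup M] [Module R M] [AddCommGroup N] [Module R N]
  {P : RootPairing ι R M N} [Fintype ι] [P.IsCrystallographic] [CharZero R] [IsDomain R]

open scoped Classical in
/-- The positive roots of a simple system, as a finite set. -/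
noncomputable def posFinset (P : RootPairing ι R M N) (Δ : Set ι) : Finset ι :=
  Finset.univ.filter (· ∈ RootD.posOf P Δ)

theorem mem_posFinset {Δ : Set ι} {k : ι} : k ∈ posFinset P Δ ↔ k ∈ RootD.posOf P Δ := by
  simp [posFinset]

namespace IsSimple

variable {Δ : Set ι} (h : IsSimple P Δ)
include h

theorem refl_smul_posFinset_perm {i : ι} (hi : i ∈ Δ) {k : ι} (hk : k ∈ posFinset P Δ) (hne : k ≠ i)
    (hne2 : P.root k ≠ (2 : ℤ) • P.root i) :
    P.reflectionPerm i k ∈ posFinset P Δ ∧ P.reflectionPerm i k ≠ i ∧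
      P.root (P.reflectionPerm i k) ≠ (2 : ℤ) • P.root i := by
  have hk' := mem_posFinset.mp hk
  refine ⟨mem_posFinset.mpr (h.refl_smul_mem_posOf hi hk' hne hne2), fun e => ?_, fun e => ?_⟩
  · have : k = nr P i := by rw [← P.reflectionPerm_self i k, e]
    rw [this] at hk'
    exact h.isPosSys_posOf.disjoint (h.subset_posOf hi) hk'
  · have h2 := congrArg (P.reflection i) e
    rw [root_reflectionPerm, reflection_same, map_zsmul, RootPairing.reflection_apply_self] at h2
    have hp := h.mem_posOf_iff.mp hk' i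
    rw [h.coeff_smul (k := i) (z := -2) (by rw [h2]; module), h.coeff_self hi] at hp
    simp at hp

theorem exists_sum_pz_right {i : ι} (hi : i ∈ Δ) :
    ∃ m : ℕ, ∑ k ∈ posFinset P Δ, pz P k i = 2 + 4 * m ∧
      (m = 0 ↔ ∀ k, P.root k ≠ (2 : ℤ) • P.root i) := by
  classical
  set T := posFinset P Δ
  let E := T.filter fun k => k = i ∨ P.root k = (2 : ℤ) • P.root i
  have hsplit : ∑ k ∈ T, pz P k i = ∑ k ∈ E, pz P k i + ∑ k ∈ T \ E, pz P k i := by
    rw [add_comm, Finset.sum_sdiff (Finset.filter_subset _ T)]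
  have hzero : ∑ k ∈ T \ E, pz P k i = 0 := by
    have hmem : ∀ k ∈ T \ E, P.reflectionPerm i k ∈ T \ E := fun k hk => by
      simp only [Finset.mem_sdiff, E, Finset.mem_filter, not_and, not_or] at hk ⊢
      obtain ⟨h1, h2⟩ := hk
      obtain ⟨a, b, c⟩ := h.refl_smul_posFinset_perm hi h1 (h2 h1).1 (h2 h1).2
      exact ⟨a, fun _ => ⟨b, c⟩⟩
    refine Finset.sum_involution (fun k _ => P.reflectionPerm i k) (fun k _ => ?_) (fun k _ hne e => ?_)
      hmem (fun k _ => P.reflectionPerm_self i k)
    · have := pz_smul P (refl P i) k i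
      rw [refl_smul, refl_smul] at this
      change pz P (P.reflectionPerm i k) (nr P i) = _ at this
      rw [pz_nr_right] at this
      omega
    · have := pz_smul P (refl P i) k i
      rw [refl_smul, refl_smul, e] at this
      change pz P k (nr P i) = _ at this
      rw [pz_nr_right] at this
      omega
  have hiT : i ∈ T := mem_posFinset.mpr (h.subset_posOf hi)
  by_cases hd : ∀ k, P.root k ≠ (2 : ℤ) • P.root i
  · refine ⟨0, ?_, by simp [hd]⟩
    have hE : E = {i} := by
      ext k; simp only [E, Finset.mem_filter, Finset.mem_singleton]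
      exact ⟨fun hk => hk.2.resolve_right (hd k), fun e => ⟨e ▸ hiT, Or.inl e⟩⟩
    rw [hsplit, hzero, hE, Finset.sum_singleton, pz_same]; norm_num
  · push Not at hd
    obtain ⟨d, hd⟩ := hd
    refine ⟨1, ?_, by simp only [one_ne_zero, false_iff]; exact fun hn => hn d hd⟩
    have hdT : d ∈ T := mem_posFinset.mpr (show P.root d ∈ RootD.natSpan P Δ by
      rw [hd, two_zsmul]; exact add_mem (root_mem_natSpan P hi) (root_mem_natSpan P hi))
    have hdi : d ≠ i := fun e => by
      rw [e, two_zsmul] at hd
      exact root_ne_zero P i (by simpa using hd.symm)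
    have hE : E = {i, d} := by
      ext k; simp only [E, Finset.mem_filter, Finset.mem_insert, Finset.mem_singleton]
      exact ⟨fun hk => hk.2.imp id fun e => P.root.injective (e.trans hd.symm),
        fun e => e.elim (fun e => ⟨e ▸ hiT, Or.inl e⟩) fun e => ⟨e ▸ hdT, Or.inr (e ▸ hd)⟩⟩
    have hpz : pz P d i = 4 := pz_inj P (by
      rw [← root_coroot_eq_pairing, hd, map_zsmul]
      simp [zsmul_eq_mul]; norm_num)
    rw [hsplit, hzero, hE, Finset.sum_pair hdi.symm, pz_same, hpz]; norm_num

theorem two_le_sum_pz_right {i : ι} (hi : i ∈ Δ) : 2 ≤ ∑ k ∈ posFinset P Δ, pz P k i := by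
  obtain ⟨m, hm, -⟩ := h.exists_sum_pz_right hi
  omega

theorem sum_pz_left_of_reduced [P.IsReduced] {i : ι} (hi : i ∈ Δ) :
    ∑ k ∈ posFinset P Δ, pz P i k = 2 := by
  classical
  have hiT : i ∈ posFinset P Δ := mem_posFinset.mpr (h.subset_posOf hi)
  rw [← Finset.add_sum_erase _ _ hiT, pz_same]
  suffices ∑ k ∈ (posFinset P Δ).erase i, pz P i k = 0 by omega
  have key : ∀ k, pz P i (P.reflectionPerm i k) = -pz P i k := fun k => by
    have := pz_smul P (refl P i) i k
    rw [refl_smul, refl_smul] at this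
    change pz P (nr P i) (P.reflectionPerm i k) = _ at this
    rw [pz_nr_left] at this
    omega
  refine Finset.sum_involution (fun k _ => P.reflectionPerm i k) (fun k _ => by rw [key]; omega)
    (fun k _ hne e => ?_) (fun k hk => ?_) (fun k _ => P.reflectionPerm_self i k)
  · have := key k
    rw [e] at this
    omega
  · rw [Finset.mem_erase] at hk ⊢
    obtain ⟨a, b, -⟩ := h.refl_smul_posFinset_perm hi hk.2 hk.1 (not_two_smul_of_reduced k i)
    exact ⟨b, a⟩

theorem sum_pz_right_of_reduced [P.IsReduced] {i : ι} (hi : i ∈ Δ) :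
    ∑ k ∈ posFinset P Δ, pz P k i = 2 := by
  obtain ⟨m, hm, hm0⟩ := h.exists_sum_pz_right hi
  rw [hm, hm0.mpr (fun k => not_two_smul_of_reduced k i)]
  norm_num

theorem sum_pz_left_eq_two_ht [P.IsReduced] (a : ι) :
    ∑ k ∈ posFinset P Δ, pz P a k = 2 * h.ht a := by
  classical
  have e : ∀ q, pz P a q = (h.coeff a).sum fun x n => n * pz P x q := fun q => by
    refine pz_inj P ?_
    rw [← coroot'_linearCombination, h.linearCombination_coeff]
    simp
  simp only [e, Finsupp.sum]
  rw [Finset.sum_comm, IsSimple.ht, Finsupp.sum, Finset.mul_sum]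
  refine Finset.sum_congr rfl fun x hx => ?_
  rw [← Finset.mul_sum, h.sum_pz_left_of_reduced (h.coeff_support a hx)]
  ring

end IsSimple

end GrothLib.RootDatum
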