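import Groth.Agent.Lib.RootDatum.Flip
import Groth.Agent.Lib.RootDatum.Rho

/-!
Dominant homomorphisms on the weight lattice of a root datum.
-/

set_option linter.unusedSectionVars false
set_option linter.style.haveILetI false

namespace GrothLib.RootDatum

open Function Set Module RootPairing

variable {ι M N : Type*} [AddCommGroup M] [AddCommGroup N] {P : RootPairing ι ℤ M N} [Finite ι]
variable {Γ : Type*} [AddCommGroup Γ] [LinearOrder Γ] [IsOrderedAddMonoid Γ]

theorem two_rootForm_root [Fintype ι] (x : M) (i : ι) :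
    2 * P.RootForm x (P.root i) = P.coroot' i x * qf P i i := by
  have h := P.rootForm_reflection_reflection_apply i x (P.root i)
  rw [RootPairing.reflection_apply_self, RootPairing.reflection_apply, map_neg, map_sub,
    LinearMap.sub_apply, map_smul, LinearMap.smul_apply, qf_eq_rootForm, smul_eq_mul] at h
  linarith

/-- The roots on which a weight is non-negative form a closed set. -/
theorem isClosedSub_coroot'_nonneg (x : M) : RootD.IsClosedSub P {i | 0 ≤ P.coroot' i x} := by
  haveI := Fintype.ofFinite ι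
  intro i j k (hi : 0 ≤ P.coroot' i x) (hj : 0 ≤ P.coroot' j x) e
  have h1 := two_rootForm_root (P := P) x k
  rw [e, map_add, mul_add, two_rootForm_root, two_rootForm_root] at h1
  have := mul_nonneg hi (qf_self_pos P i).le
  have := mul_nonneg hj (qf_self_pos P j).le
  exact nonneg_of_mul_nonneg_left (by omega) (qf_self_pos P k)

theorem exists_dominant_conj {S : Set ι} (hS : RootD.IsPosSys P S) (x : M) :
    ∃ g : P.Aut, g ∈ P.weylGroup ∧ ∀ i ∈ S, 0 ≤ P.coroot' i (g • x) := by
  have hcov : ∀ i : ι, i ∈ {j | 0 ≤ P.coroot' j x} ∨ nr P i ∈ {j | 0 ≤ P.coroot' j x} := fun i => by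
    rcases le_total 0 (P.coroot' i x) with h | h
    · exact Or.inl h
    · refine Or.inr ?_
      show 0 ≤ P.toLinearMap x (P.coroot (nr P i))
      rw [coroot_nr, map_neg]
      exact neg_nonneg.mpr h
  obtain ⟨g, hg, hsub⟩ := exists_weylGroup_image_subset hS hcov (isClosedSub_coroot'_nonneg x)
  refine ⟨g⁻¹, inv_mem hg, fun i hi => ?_⟩
  have h0 : 0 ≤ P.coroot' (g • i) x := hsub ⟨i, hi, rfl⟩
  have h1 := toLinearMap_smul_coroot g i (g⁻¹ • x)
  rw [smul_inv_smul] at h1
  exact h1 ▸ h0

theorem apply_refl (f : M →+ Γ) (i : ι) (x : M) :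
    f (refl P i • x) = f x - P.coroot' i x • f (P.root i) := by
  rw [RootPairing.Equiv.reflection_smul, RootPairing.reflection_apply, map_sub, map_zsmul]

theorem IsSimple.exists_sub_eq_sum [Fintype ι] {Δ : Set ι} (h : IsSimple P Δ) (f : M →+ Γ)
    (hf : ∀ i ∈ RootD.posOf P Δ, 0 ≤ f (P.root i)) {l : List ι} (hm : IsSimple.IsMinWord P Δ l) :
    ∃ c : ι → Γ, (∀ i, 0 ≤ c i) ∧ (∀ i, i ∉ RootD.posOf P Δ → c i = 0) ∧
      ∀ m : M, f m - f (word P l • m) = ∑ i, P.coroot' i m • c i := by
  classical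
  induction l using List.reverseRecOn with
  | nil => exact ⟨0, fun i => le_rfl, fun i _ => rfl, fun m => by simp [word]⟩
  | append_singleton t a ih =>
    obtain ⟨c, hc0, hcS, hc⟩ := ih (h.minWord_dropLast hm)
    obtain ⟨hpos, -⟩ := h.minWord_last hm
    have ha : a ∈ RootD.posOf P Δ := h.subset_posOf (hm.1 a (by simp))
    refine ⟨c + Pi.single a (f (P.root (word P t • a))), fun i => ?_, fun i hi => ?_, fun m => ?_⟩
    · simp only [Pi.add_apply]
      refine add_nonneg (hc0 i) ?_
      by_cases e : i = a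
      · rw [e, Pi.single_eq_same]; exact hf _ hpos
      · rw [Pi.single_eq_of_ne e]
    · simp only [Pi.add_apply]
      rw [hcS i hi, Pi.single_eq_of_ne (fun e : i = a => hi (e ▸ ha)), add_zero]
    · simp only [Pi.add_apply, smul_add, Finset.sum_add_distrib]
      rw [← hc m, Finset.sum_eq_single a (fun b _ hb => by rw [Pi.single_eq_of_ne hb, smul_zero])
        (fun hn => absurd (Finset.mem_univ a) hn), Pi.single_eq_same, word_concat, mul_smul,
        RootPairing.Equiv.reflection_smul, RootPairing.reflection_apply, smul_sub (word P t), map_sub,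
        smul_comm (word P t) (P.coroot' a m), smul_root, map_zsmul]
      abel

theorem IsSimple.dominant_of_simple {Δ : Set ι} (h : IsSimple P Δ) (f : M →+ Γ)
    (hf : ∀ a ∈ Δ, 0 ≤ f (P.root a)) {k : ι} (hk : k ∈ RootD.posOf P Δ) : 0 ≤ f (P.root k) := by
  obtain ⟨l, hl, hlk⟩ := exists_list_of_mem_natSpan P (show P.root k ∈ RootD.natSpan P Δ from hk)
  rw [hlk, map_list_sum]
  refine List.sum_nonneg fun x hx => ?_
  simp only [List.mem_map] at hx
  obtain ⟨_, ⟨a, ha, rfl⟩, rfl⟩ := hx
  exact hf a (hl a ha)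

theorem IsSimple.coroot'_rho_nonneg [Fintype ι] {Δ : Set ι} (h : IsSimple P Δ) {k : ι}
    (hk : k ∈ RootD.posOf P Δ) : 0 ≤ P.coroot' k (∑ a ∈ posFinset P Δ, P.root a) := by
  refine h.coroot'_nonneg (v := ∑ a ∈ posFinset P Δ, P.root a) (z := fun q => P.coroot' q (∑ a ∈ posFinset P Δ, P.root a))
    (fun q => by simp) (fun a ha => ?_) hk
  have := h.two_le_sum_pz_right ha
  simp only [map_sum, RootPairing.root_coroot'_eq_pairing, ← pz_eq_pairing]
  omega

theorem IsSimple.coroot'_rho_pos [Fintype ι] {Δ : Set ι} (h : IsSimple P Δ) {a : ι} (ha : a ∈ Δ) :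
    0 < P.coroot' a (∑ k ∈ posFinset P Δ, P.root k) := by
  have := h.two_le_sum_pz_right ha
  simp only [map_sum, RootPairing.root_coroot'_eq_pairing, ← pz_eq_pairing]
  omega

theorem IsSimple.dominant_of_rho [Fintype ι] {Δ : Set ι} (h : IsSimple P Δ) (f : M →+ Γ)
    (hf : ∀ a ∈ Δ, f (refl P a • ∑ k ∈ posFinset P Δ, P.root k) ≤ f (∑ k ∈ posFinset P Δ, P.root k))
    {k : ι} (hk : k ∈ RootD.posOf P Δ) : 0 ≤ f (P.root k) := by
  refine h.dominant_of_simple f (fun a ha => ?_) hk
  have h1 := hf a ha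
  rw [apply_refl, sub_le_self_iff] at h1
  by_contra! hneg
  obtain ⟨n, hn⟩ := Int.eq_ofNat_of_zero_le (h.coroot'_rho_pos ha).le
  have hn0 : n ≠ 0 := by have := h.coroot'_rho_pos ha; omega
  rw [hn, natCast_zsmul] at h1
  exact absurd h1 (not_le.mpr (by
    have := nsmul_pos (neg_pos.mpr hneg) hn0
    rw [smul_neg n] at this
    exact neg_pos.mp this))

end GrothLib.RootDatum
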