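import Groth.Prelude.Def_W4sga3xxiRoot
import Mathlib.LinearAlgebra.RootSystem.Finite.Lemmas
import Mathlib.LinearAlgebra.RootSystem.Finite.Nondegenerate
import Mathlib.LinearAlgebra.RootSystem.WeylGroup
import Mathlib.LinearAlgebra.Finsupp.LinearCombination
import Mathlib.Algebra.BigOperators.Group.List.Basic

/-!
Basic facts about finite crystallographic root pairings, in a form that does not assume reducedness:
integer pairings, the integral canonical form, proportional roots, anisotropy on the root lattice,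
and the action of automorphisms on pairings.
-/

set_option linter.unusedSectionVars false
set_option linter.style.haveILetI false

namespace GrothLib.RootDatum

open Function Set Module RootPairing

variable {ι R M N : Type*} [CommRing R] [AddCommGroup M] [Module R M] [AddCommGroup N] [Module R N]
  (P : RootPairing ι R M N)

/-- The opposite index. -/
abbrev nr (i : ι) : ι := P.reflectionPerm i i

theorem root_nr (i : ι) : P.root (nr P i) = -P.root i := by simp

theorem coroot_nr (i : ι) : P.coroot (nr P i) = -P.coroot i := by simp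

theorem nr_nr (i : ι) : nr P (nr P i) = i := P.root.injective (by rw [root_nr, root_nr, neg_neg])

theorem eq_nr_iff {i j : ι} : i = nr P j ↔ P.root i = -P.root j :=
  P.root_eq_neg_iff.symm

theorem reflection_nr (i : ι) : P.reflection (nr P i) = P.reflection i := by
  ext x; simp [RootPairing.reflection_apply]; module

section Aut

variable {P}

theorem smul_root (g : P.Aut) (i : ι) : g • P.root i = P.root (g • i) :=
  (RootPairing.Equiv.root_indexEquiv_eq_smul P i g).symm

theorem reflection_smul_index (i j : ι) :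
    (RootPairing.Equiv.reflection P i) • j = P.reflectionPerm i j := rfl

theorem smul_nr (g : P.Aut) (i : ι) : g • nr P i = nr P (g • i) := by
  rw [eq_nr_iff, ← smul_root, root_nr, smul_neg, smul_root]

theorem toLinearMap_smul_coroot (g : P.Aut) (i : ι) (x : M) :
    P.coroot' (g • i) (g • x) = P.coroot' i x := by
  change P.toLinearMap (g.weightMap x) (P.coroot (g.indexEquiv i)) = P.toLinearMap x (P.coroot i)
  have := LinearMap.congr_fun
    (RootPairing.Hom.weight_coweight_transpose_apply P P (P.coroot (g.indexEquiv i)) g.toHom) x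
  rw [RootPairing.Hom.coroot_coweightMap_apply] at this
  simpa using this

theorem smul_index_injective (g : P.Aut) : Injective (fun i : ι => g • i) := MulAction.injective g

theorem aut_ext {g h : P.Aut} (H : ∀ x : M, g • x = h • x) : g = h :=
  RootPairing.Equiv.weightHom_injective P (LinearEquiv.ext H)

theorem pairing_smul (g : P.Aut) (i j : ι) : P.pairing (g • i) (g • j) = P.pairing i j := by
  have := toLinearMap_smul_coroot g j (P.root i)
  rw [smul_root] at this
  simpa using this

end Aut

section Crystallographic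

variable [P.IsCrystallographic]

/-- The integer pairing. -/
noncomputable abbrev pz (i j : ι) : ℤ := P.pairingIn ℤ i j

theorem cast_pz (i j : ι) : (pz P i j : R) = P.pairing i j := by
  simpa [pz] using P.algebraMap_pairingIn ℤ i j

theorem pz_eq_pairing {ι M N : Type*} [AddCommGroup M] [AddCommGroup N] (P : RootPairing ι ℤ M N)
    (i j : ι) : pz P i j = P.pairing i j := by
  simpa [pz] using P.algebraMap_pairingIn ℤ i j

theorem reflection_root (i j : ι) :
    P.reflection i (P.root j) = P.root j - pz P j i • P.root i := by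
  rw [reflection_apply_root, ← cast_pz, Int.cast_smul_eq_zsmul]

theorem root_refl (i j : ι) :
    P.root (P.reflectionPerm i j) = P.root j - pz P j i • P.root i := by
  rw [root_reflectionPerm, reflection_root]

theorem coroot'_list_sum (l : List ι) (q : ι) :
    P.coroot' q (l.map P.root).sum = (((l.map fun a => pz P a q).sum : ℤ) : R) := by
  induction l with
  | nil => simp
  | cons a t ih => simp [map_add, ih, cast_pz]

theorem coroot'_linearCombination (c : ι →₀ ℤ) (q : ι) :
    P.coroot' q (Finsupp.linearCombination ℤ P.root c) = ((c.sum fun a n => n * pz P a q : ℤ) : R) := by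
  rw [Finsupp.linearCombination_apply, map_finsuppSum]
  simp only [Finsupp.sum, Int.cast_sum, Int.cast_mul, map_zsmul, root_coroot'_eq_pairing,
    zsmul_eq_mul, cast_pz]

variable [CharZero R]

theorem pz_same (i : ι) : pz P i i = 2 := P.pairingIn_same ℤ i

theorem pz_inj {i j : ι} {z : ℤ} (h : P.pairing i j = (z : R)) : pz P i j = z :=
  Int.cast_injective (α := R) (by rw [cast_pz, h])

theorem pz_nr_left (i j : ι) : pz P (nr P i) j = -pz P i j :=
  pz_inj P (by simp [cast_pz])

theorem pz_nr_right (i j : ι) : pz P i (nr P j) = -pz P i j :=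
  pz_inj P (by simp [cast_pz])

theorem pz_smul (g : P.Aut) (i j : ι) : pz P (g • i) (g • j) = pz P i j :=
  pz_inj P (by rw [pairing_smul, cast_pz])

theorem pz_add {i j k : ι} (h : P.root k = P.root i + P.root j) (q : ι) :
    pz P k q = pz P i q + pz P j q :=
  pz_inj P (by rw [pairing_eq_add_of_root_eq_add h]; simp [cast_pz])

theorem pz_list_sum {l : List ι} {k : ι} (h : P.root k = (l.map P.root).sum) (q : ι) :
    pz P k q = (l.map fun a => pz P a q).sum := by
  apply pz_inj P
  rw [← coroot'_list_sum, ← h]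
  simp

variable [IsDomain R]

include P in
theorem torsionFree : IsAddTorsionFree M := by
  have : Module.IsReflexive R M := .of_isPerfPair P.toLinearMap
  exact .of_isTorsionFree R M

include P in
theorem zsmul_inj {a : ℤ} (ha : a ≠ 0) {x y : M} (h : a • x = a • y) : x = y := by
  have := torsionFree P
  exact zsmul_right_injective ha h

theorem root_ne_zero (i : ι) : P.root i ≠ 0 := P.ne_zero i

theorem pz_eq_zero_iff {i j : ι} : pz P i j = 0 ↔ pz P j i = 0 := by
  have : Module.IsReflexive R M := .of_isPerfPair P.toLinearMap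
  exact P.pairingIn_eq_zero_iff

theorem isOrthogonal_iff {i j : ι} : P.IsOrthogonal i j ↔ pz P i j = 0 := by
  constructor
  · exact fun h => pz_inj P (by simp [h.1])
  · exact fun h => ⟨by rw [← cast_pz, h, Int.cast_zero],
      by rw [← cast_pz, (pz_eq_zero_iff P).mp h, Int.cast_zero]⟩

variable [Finite ι]

theorem pz_pos_symm {i j : ι} : 0 < pz P i j ↔ 0 < pz P j i := P.zero_lt_pairingIn_iff' ℤ

theorem pz_neg_symm {i j : ι} : pz P i j < 0 ↔ pz P j i < 0 := P.pairingIn_lt_zero_iff ℤ

theorem exists_root_sub {i j : ι} (h : 0 < pz P i j) (h' : i ≠ j) :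
    ∃ k, P.root k = P.root i - P.root j :=
  P.root_sub_root_mem_of_pairingIn_pos h h'

theorem exists_root_add {i j : ι} (h : pz P i j < 0) (h' : i ≠ nr P j) :
    ∃ k, P.root k = P.root i + P.root j := by
  have h1 : 0 < pz P i (nr P j) := by rw [pz_nr_right]; omega
  obtain ⟨k, hk⟩ := exists_root_sub P h1 h'
  exact ⟨k, by rw [hk, root_nr, sub_neg_eq_add]⟩

theorem pz_pair_mem (i j : ι) :
    (pz P i j, pz P j i) ∈
      ({(0, 0), (1, 1), (-1, -1), (1, 2), (2, 1), (-1, -2), (-2, -1), (1, 3), (3, 1), (-1, -3),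
        (-3, -1), (4, 1), (1, 4), (-4, -1), (-1, -4), (2, 2), (-2, -2)} : Set (ℤ × ℤ)) :=
  P.pairingIn_pairingIn_mem_set_of_isCrystallographic i j

/-- Two proportional roots differ by a factor `±1`, `±2` or `±1/2`. -/
theorem proportional_cases {i j : ι} {a b : ℤ} (hb : b ≠ 0) (h : b • P.root j = a • P.root i) :
    (j = i ∧ a = b) ∨ (j = nr P i ∧ a = -b) ∨
    (P.root j = (2 : ℤ) • P.root i ∧ a = 2 * b) ∨ (P.root j = (-2 : ℤ) • P.root i ∧ a = -2 * b) ∨
    (P.root i = (2 : ℤ) • P.root j ∧ b = 2 * a) ∨ (P.root i = (-2 : ℤ) • P.root j ∧ b = -2 * a) := by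
  have key : ∀ q, b * pz P j q = a * pz P i q := fun q => by
    apply Int.cast_injective (α := R)
    have := congrArg (P.coroot' q) h
    simpa [cast_pz] using this
  have h1 := key i
  have h2 := key j
  rw [pz_same] at h1 h2
  have ha : a ≠ 0 := by
    rintro rfl
    simp only [zero_mul] at h2
    omega
  have hmem := pz_pair_mem P i j
  have hp : pz P i j * pz P j i = 4 :=
    mul_left_cancel₀ (mul_ne_zero ha hb) (by linear_combination pz P i j * a * h1 - 2 * a * h2)
  simp only [mem_insert_iff, mem_singleton_iff, Prod.mk.injEq] at hmem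
  have two : ∀ {x y : ι}, ∀ {u v z : ℤ}, u ≠ 0 → v = z * u → u • P.root x = v • P.root y →
      P.root x = z • P.root y := fun hu hv he => zsmul_inj P hu (by rw [he, smul_smul, hv, mul_comm])
  rcases hmem with ⟨e1, e2⟩ | ⟨e1, e2⟩ | ⟨e1, e2⟩ | ⟨e1, e2⟩ | ⟨e1, e2⟩ | ⟨e1, e2⟩ | ⟨e1, e2⟩ |
    ⟨e1, e2⟩ | ⟨e1, e2⟩ | ⟨e1, e2⟩ | ⟨e1, e2⟩ | ⟨e1, e2⟩ | ⟨e1, e2⟩ | ⟨e1, e2⟩ | ⟨e1, e2⟩ |
    ⟨e1, e2⟩ | ⟨e1, e2⟩ <;> rw [e1] at h2 hp <;> rw [e2] at h1 hp <;> first
    | (exfalso; omega)
    | skip
  · -- (4, 1)
    have hba : b = 2 * a := by omega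
    exact Or.inr <| Or.inr <| Or.inr <| Or.inr <| Or.inl ⟨two ha hba h.symm, hba⟩
  · -- (1, 4)
    have hba : a = 2 * b := by omega
    exact Or.inr <| Or.inr <| Or.inl ⟨two hb hba h, hba⟩
  · -- (-4, -1)
    have hba : b = -2 * a := by omega
    exact Or.inr <| Or.inr <| Or.inr <| Or.inr <| Or.inr ⟨two ha hba h.symm, hba⟩
  · -- (-1, -4)
    have hba : a = -2 * b := by omega
    exact Or.inr <| Or.inr <| Or.inr <| Or.inl ⟨two hb hba h, hba⟩
  · -- (2, 2)
    have hba : a = 1 * b := by omega
    exact Or.inl ⟨P.root.injective (by simpa using two hb hba h), by omega⟩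
  · -- (-2, -2)
    have hba : a = -1 * b := by omega
    exact Or.inr <| Or.inl ⟨(eq_nr_iff P).mpr (by simpa using two hb hba h), by omega⟩

theorem two_smul_eq (i : ι) : (2 : R) • P.root i = (2 : ℤ) • P.root i := by
  rw [← Int.cast_smul_eq_zsmul R (2 : ℤ), Int.cast_ofNat]

theorem isIndiv_iff (i : ι) : RootD.IsIndiv P i ↔ ∀ j, P.root i ≠ (2 : ℤ) • P.root j := by
  simp only [RootD.IsIndiv, two_smul_eq]
  exact forall_congr' fun j => ne_comm

theorem indiv_or_eq_two_smul (k : ι) :
    RootD.IsIndiv P k ∨ ∃ j, RootD.IsIndiv P j ∧ P.root k = (2 : ℤ) • P.root j := by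
  rw [or_iff_not_imp_left, isIndiv_iff]
  intro h
  push Not at h
  obtain ⟨j, hj⟩ := h
  refine ⟨j, (isIndiv_iff P j).mpr fun l hl => ?_, hj⟩
  rw [hl, smul_smul] at hj
  have h4 : (1 : ℤ) • P.root k = (4 : ℤ) • P.root l := by rw [one_smul, hj]; rfl
  rcases proportional_cases P one_ne_zero h4 with h | h | h | h | h | h <;> omega

theorem coroot_of_root_eq_two_smul {i k : ι} (h : P.root k = (2 : ℤ) • P.root i) :
    P.coroot i = (2 : R) • P.coroot k := by
  have : Module.IsReflexive R N := .of_isPerfPair P.flip.toLinearMap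
  have : IsAddTorsionFree N := .of_isTorsionFree R N
  exact (smul_coroot_eq_of_root_eq_smul (P := P) i k 2 (by rw [h, two_smul_eq])).symm

theorem reflection_of_root_eq_two_smul {i k : ι} (h : P.root k = (2 : ℤ) • P.root i) :
    RootPairing.Equiv.reflection P k = RootPairing.Equiv.reflection P i := by
  refine aut_ext fun x => ?_
  rw [RootPairing.Equiv.reflection_smul, RootPairing.Equiv.reflection_smul, RootPairing.reflection_apply,
    RootPairing.reflection_apply]
  simp [h, coroot_of_root_eq_two_smul P h, ← two_smul_eq, smul_smul, mul_comm]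

theorem isIndiv_smul {g : P.Aut} {i : ι} (h : RootD.IsIndiv P i) : RootD.IsIndiv P (g • i) := by
  rw [isIndiv_iff] at h ⊢
  intro j hj
  refine h (g⁻¹ • j) ?_
  rw [← smul_root, ← inv_smul_smul g (P.root i), smul_root g i, hj, smul_comm]

theorem isIndiv_nr {i : ι} (h : RootD.IsIndiv P i) : RootD.IsIndiv P (nr P i) :=
  isIndiv_smul P (g := RootPairing.Equiv.reflection P i) h

/-- The integral canonical form on a pair of roots. -/
noncomputable def qf (i j : ι) : ℤ :=
  letI := Fintype.ofFinite ι
  ∑ q, pz P i q * pz P j q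

theorem qf_def [Fintype ι] (i j : ι) : qf P i j = ∑ q, pz P i q * pz P j q :=
  by rw [qf, Subsingleton.elim (Fintype.ofFinite ι)]

theorem cast_qf [Fintype ι] (i j : ι) : (qf P i j : R) = P.RootForm (P.root i) (P.root j) := by
  rw [rootForm_apply_apply, qf_def, Int.cast_sum]
  exact Finset.sum_congr rfl fun q _ => by simp [cast_pz]

theorem qf_comm (i j : ι) : qf P i j = qf P j i := by
  haveI := Fintype.ofFinite ι
  simp only [qf_def, mul_comm]

theorem qf_self_pos (i : ι) : 0 < qf P i i := by
  haveI := Fintype.ofFinite ι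
  rw [qf_def]
  exact Finset.sum_pos' (fun q _ => mul_self_nonneg _) ⟨i, Finset.mem_univ i, by simp⟩

theorem two_qf (i j : ι) : 2 * qf P i j = pz P i j * qf P j j := by
  haveI := Fintype.ofFinite ι
  apply Int.cast_injective (α := R)
  push_cast
  rw [cast_qf, cast_qf, cast_pz]
  exact (P.posRootForm ℤ).toInvariantForm.two_mul_apply_root_root i j

theorem qf_smul (g : P.Aut) (i j : ι) : qf P (g • i) (g • j) = qf P i j := by
  haveI := Fintype.ofFinite ι
  rw [qf_def, qf_def]
  refine (_root_.Fintype.sum_equiv (MulAction.toPerm g) _ _ fun q => ?_).symm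
  simp [pz_smul]

theorem pz_mul_qf (i j : ι) : pz P i j * qf P j j = pz P j i * qf P i i := by
  rw [← two_qf, ← two_qf, qf_comm]

/-- A vector of the root lattice killed by all coroots is zero. -/
theorem eq_zero_of_mem_span_of_coroot' {v : M} (hv : v ∈ Submodule.span ℤ (range P.root))
    (h : ∀ q, P.coroot' q v = 0) : v = 0 := by
  haveI := Fintype.ofFinite ι
  have h1 : v ∈ P.rootSpan R := Submodule.span_le_restrictScalars ℤ R _ hv
  have h2 : v ∈ LinearMap.ker P.RootForm := by
    rw [LinearMap.mem_ker]
    ext x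
    simp only [rootForm_apply_apply, LinearMap.zero_apply]
    exact Finset.sum_eq_zero fun q _ => by rw [h q, zero_mul]
  exact Submodule.disjoint_def.mp P.disjoint_rootSpan_ker_rootForm v h1 h2

end Crystallographic

end GrothLib.RootDatum
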