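import Groth.Agent.Lib.RootDatum.PosSys
import Mathlib.Analysis.Matrix.PosDef
import Mathlib.Algebra.Order.Star.Real
import Mathlib.LinearAlgebra.Matrix.ToLinearEquiv

/-!
Symmetrised Cartan matrices of linearly independent sets of roots are positive definite.
-/

set_option linter.unusedSectionVars false
set_option linter.style.haveILetI false

namespace GrothLib.RootDatum

open Function Set Module RootPairing Matrix

variable {ι R M N : Type*} [CommRing R] [AddCommGroup M] [Module R M] [AddCommGroup N] [Module R N]
  (P : RootPairing ι R M N) [P.IsCrystallographic] [Fintype ι] [CharZero R] [IsDomain R]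

/-- The integer pairings of a finite set of roots with all roots. -/
noncomputable def pairingMat (s : Finset ι) : Matrix s ι ℤ := Matrix.of fun a q => pz P (a : ι) q

theorem scaledCartan_eq (s : Finset ι) :
    (Matrix.of fun a b : s => qf P (a : ι) a * pz P (b : ι) a) =
      (2 : ℤ) • (pairingMat P s * (pairingMat P s)ᵀ) := by
  ext a b
  simp only [of_apply, Matrix.smul_apply, mul_apply, transpose_apply, pairingMat, ← qf_def,
    smul_eq_mul, mul_comm (qf P (a : ι) a), ← two_qf, qf_comm]

theorem pairingMat_vecMul_injective {s : Finset ι} (hli : LinearIndepOn ℤ P.root (s : Set ι)) :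
    Injective (pairingMat P s).vecMul := by
  classical
  refine (injective_iff_map_eq_zero (pairingMat P s).vecMulLinear).mpr fun x hx => ?_
  have h0 : ∑ a : s, x a • P.root (a : ι) = 0 := by
    refine eq_zero_of_mem_span_of_coroot' P
      (Submodule.sum_mem _ fun a _ => Submodule.smul_mem _ _ (Submodule.subset_span ⟨_, rfl⟩)) fun q => ?_
    have := congrArg (Int.cast : ℤ → R) (congrFun hx q)
    simpa [pairingMat, vecMul, dotProduct, cast_pz] using this
  exact funext fun a => Fintype.linearIndependent_iff.mp hli.linearIndependent x h0 a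

theorem scaledCartan_posDef {s : Finset ι} (hli : LinearIndepOn ℤ P.root (s : Set ι)) :
    (Matrix.of fun a b : s => qf P (a : ι) a * pz P (b : ι) a).PosDef := by
  refine PosDef.of_dotProduct_mulVec_pos ?_ fun x hx => ?_
  · refine Matrix.ext fun a b => ?_
    simp only [conjTranspose_apply, of_apply, star_trivial]
    rw [mul_comm, pz_mul_qf, mul_comm]
  · rw [scaledCartan_eq, star_trivial, smul_mulVec, dotProduct_smul, ← mulVec_mulVec, dotProduct_mulVec,
      mulVec_transpose, smul_eq_mul]
    have hy : x ᵥ* pairingMat P s ≠ 0 := fun h0 =>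
      hx (pairingMat_vecMul_injective P hli (h0.trans (zero_vecMul _).symm))
    obtain ⟨q, hq⟩ := Function.ne_iff.mp hy
    exact mul_pos two_pos (Finset.sum_pos' (fun q _ => mul_self_nonneg _)
      ⟨q, Finset.mem_univ q, mul_self_pos.mpr hq⟩)

theorem cartan_det_pos {s : Finset ι} [DecidableEq s] (hli : LinearIndepOn ℤ P.root (s : Set ι)) :
    0 < (Matrix.of fun a b : s => pz P (b : ι) a).det := by
  have hne : (Matrix.of fun a b : s => qf P (a : ι) a * pz P (b : ι) a).det ≠ 0 := fun h0 => by
    obtain ⟨v, hv, hMv⟩ := Matrix.exists_mulVec_eq_zero_iff.mpr h0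
    simpa [hMv] using (scaledCartan_posDef P hli).dotProduct_mulVec_pos hv
  have hge : 0 ≤ (Matrix.of fun a b : s => qf P (a : ι) a * pz P (b : ι) a).det := by
    rw [scaledCartan_eq, det_smul]
    refine mul_nonneg (pow_nonneg (by norm_num) _) (Int.cast_nonneg_iff (R := ℝ).mp ?_)
    have := (posSemidef_self_mul_conjTranspose ((pairingMat P s).map (Int.cast : ℤ → ℝ))).det_nonneg
    convert this using 1
    rw [show ∀ z : ℤ, (z : ℝ) = Int.castRingHom ℝ z from fun _ => rfl, RingHom.map_det, RingHom.mapMatrix_apply, Matrix.map_mul, transpose_map,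
      conjTranspose_eq_transpose_of_trivial, Int.coe_castRingHom]
  have e := det_mul_column (fun a : s => qf P (a : ι) a) (Matrix.of fun a b : s => pz P (b : ι) a)
  have hpos := lt_of_le_of_ne hge hne.symm
  simp only [of_apply] at e
  rw [e] at hpos
  exact pos_of_mul_pos_right hpos (Finset.prod_nonneg fun a _ => (qf_self_pos P _).le)

end GrothLib.RootDatum
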