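import Groth.Agent.Lib.RootDatum.Weyl

/-!
Orthogonal decompositions of a root datum.
-/

set_option linter.unusedSectionVars false
set_option linter.style.haveILetI false

namespace GrothLib.RootDatum

open Function Set Module RootPairing

variable {ι R M N : Type*} [CommRing R] [AddCommGroup M] [Module R M] [AddCommGroup N] [Module R N]
  {P : RootPairing ι R M N} [Finite ι] [P.IsCrystallographic] [CharZero R] [IsDomain R]

theorem pz_ne_zero_or {i j k : ι} (h : P.root k = P.root i + P.root j) :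
    pz P k i ≠ 0 ∨ pz P k j ≠ 0 := by
  have := pz_add P h k
  rw [pz_same] at this
  rw [Ne, Ne, pz_eq_zero_iff P, pz_eq_zero_iff P (i := k) (j := j)]
  omega

theorem root_eq_sub {i j k : ι} (h : P.root k = P.root i + P.root j) :
    P.root j = P.root k + P.root (nr P i) := by
  rw [root_nr, h]; abel

/-- In a partition into two closed symmetric sets non-orthogonal roots lie in the same part. -/
theorem mem_iff_of_partition {R' : Set ι} (hc : RootD.IsClosedSub P R') (hs : RootD.IsSymmSub P R')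
    (hc' : RootD.IsClosedSub P R'ᶜ) (hs' : RootD.IsSymmSub P R'ᶜ) {i j : ι} (hij : pz P i j ≠ 0) :
    i ∈ R' ↔ j ∈ R' := by
  suffices H : ∀ {i j}, i ∈ R' → pz P i j ≠ 0 → j ∈ R' from
    ⟨fun hi => H hi hij, fun hj => H hj fun h0 => hij ((pz_eq_zero_iff P).mp h0)⟩
  intro i j hi hij
  by_contra hj
  rcases lt_or_gt_of_ne hij with hneg | hpos
  · have hne : i ≠ nr P j := fun e => hs' hj (by rwa [e] at hi)
    obtain ⟨k, hk⟩ := exists_root_add P hneg hne
    by_cases hk' : k ∈ R'
    · exact hj (hc hk' (hs hi) (root_eq_sub hk))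
    · exact hc' hk' (hs' hj) (root_eq_sub (hk.trans (add_comm _ _))) hi
  · have hne : i ≠ j := fun e => hj (e ▸ hi)
    obtain ⟨k, hk⟩ := exists_root_sub P hpos hne
    by_cases hk' : k ∈ R'
    · exact hj (hc hi (hs hk') (by rw [root_nr, hk]; abel))
    · exact hc' hk' hj (by rw [hk]; abel) hi

theorem refl_mem_iff_of_partition {R' : Set ι} (hc : RootD.IsClosedSub P R') (hs : RootD.IsSymmSub P R')
    (hc' : RootD.IsClosedSub P R'ᶜ) (hs' : RootD.IsSymmSub P R'ᶜ) (i k : ι) :
    P.reflectionPerm i k ∈ R' ↔ k ∈ R' := by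
  by_cases h : pz P k i = 0
  · rw [show P.reflectionPerm i k = k from P.root.injective (by rw [root_refl, h, zero_smul, sub_zero])]
  · have h1 := pz_smul P (refl P i) k i
    rw [refl_smul, refl_smul] at h1
    have h2 : pz P (P.reflectionPerm i k) i ≠ 0 := by
      have : pz P (P.reflectionPerm i k) (nr P i) = pz P k i := h1
      rw [pz_nr_right] at this
      omega
    rw [mem_iff_of_partition hc hs hc' hs' h2, mem_iff_of_partition hc hs hc' hs' h]

theorem smul_mem_iff_of_partition {R' : Set ι} (hc : RootD.IsClosedSub P R') (hs : RootD.IsSymmSub P R')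
    (hc' : RootD.IsClosedSub P R'ᶜ) (hs' : RootD.IsSymmSub P R'ᶜ) {g : P.Aut} (hg : g ∈ P.weylGroup)
    (k : ι) : g • k ∈ R' ↔ k ∈ R' := by
  induction hg using RootPairing.weylGroup.induction generalizing k with
  | mem i => exact refl_mem_iff_of_partition hc hs hc' hs' i k
  | one => simp
  | mul x y _ _ hx hy => rw [mul_smul, hx, hy]

theorem IsSimple.span_refl_mem {Δ Δ' : Set ι} (horth : ∀ i ∈ Δ', ∀ j ∈ Δ \ Δ', pz P i j = 0)
    {a : ι} (ha : a ∈ Δ) {v : M} (hv : v ∈ Submodule.span ℤ (P.root '' Δ')) :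
    refl P a • v ∈ Submodule.span ℤ (P.root '' Δ') := by
  induction hv using Submodule.span_induction with
  | mem y hy =>
    obtain ⟨b, hb, rfl⟩ := hy
    rw [smul_root, refl_smul, root_refl]
    by_cases ha' : a ∈ Δ'
    · exact Submodule.sub_mem _ (Submodule.subset_span ⟨b, hb, rfl⟩)
        (Submodule.smul_mem _ _ (Submodule.subset_span ⟨a, ha', rfl⟩))
    · rw [horth b hb a ⟨ha, ha'⟩, zero_smul, sub_zero]
      exact Submodule.subset_span ⟨b, hb, rfl⟩
  | zero => rw [smul_zero]; exact Submodule.zero_mem _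
  | add x y _ _ hx hy => rw [smul_add]; exact Submodule.add_mem _ hx hy
  | smul z x _ hx => rw [smul_comm]; exact Submodule.smul_mem _ z hx

theorem IsSimple.mem_span_or {Δ Δ' : Set ι} (h : IsSimple P Δ) (hsub : Δ' ⊆ Δ)
    (horth : ∀ i ∈ Δ', ∀ j ∈ Δ \ Δ', pz P i j = 0) (k : ι) :
    (P.root k ∈ Submodule.span ℤ (P.root '' Δ') ∨ P.root k ∈ Submodule.span ℤ (P.root '' (Δ \ Δ'))) := by
  have horth' : ∀ i ∈ Δ \ Δ', ∀ j ∈ Δ \ (Δ \ Δ'), pz P i j = 0 := fun i hi j hj =>
    (pz_eq_zero_iff P).mp (horth j (by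
      by_contra hn; exact hj.2 ⟨hj.1, hn⟩) i hi)
  have key : ∀ k, RootD.IsIndiv P k →
      P.root k ∈ Submodule.span ℤ (P.root '' Δ') ∨ P.root k ∈ Submodule.span ℤ (P.root '' (Δ \ Δ')) := by
    intro k hk
    obtain ⟨g, hg, a, ha, rfl⟩ := h.exists_smul_eq_of_indiv hk
    obtain ⟨l, hl, rfl⟩ := exists_word_of_mem_closure hg
    clear hg hk
    induction l with
    | nil =>
      rw [show word P [] • a = a from one_smul _ a]
      by_cases ha' : a ∈ Δ'
      · exact Or.inl (Submodule.subset_span ⟨a, ha', rfl⟩)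
      · exact Or.inr (Submodule.subset_span ⟨a, ⟨ha, ha'⟩, rfl⟩)
    | cons b t ih =>
      rw [show word P (b :: t) = refl P b * word P t by simp [word], mul_smul, ← smul_root]
      exact (ih fun x hx => hl x (List.mem_cons_of_mem b hx)).imp
        (span_refl_mem horth (hl b (by simp))) (span_refl_mem horth' (hl b (by simp)))
  rcases indiv_or_eq_two_smul P k with hk | ⟨j, hj, hk⟩
  · exact key k hk
  · rw [hk]
    exact (key j hj).imp (Submodule.smul_mem _ _) (Submodule.smul_mem _ _)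

theorem IsSimple.not_mem_span_both {Δ Δ' : Set ι} (h : IsSimple P Δ) (hsub : Δ' ⊆ Δ) (k : ι) :
    ¬ (P.root k ∈ Submodule.span ℤ (P.root '' Δ') ∧
      P.root k ∈ Submodule.span ℤ (P.root '' (Δ \ Δ'))) := by
  rintro ⟨h1, h2⟩
  obtain ⟨c, hc, hck⟩ := (Finsupp.mem_span_image_iff_linearCombination ℤ).mp h1
  obtain ⟨d, hd, hdk⟩ := (Finsupp.mem_span_image_iff_linearCombination ℤ).mp h2
  rw [Finsupp.mem_supported] at hc hd
  have e1 := h.eq_coeff (hc.trans hsub) hck
  have e2 := h.eq_coeff (hd.trans Set.sdiff_subset) hdk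
  refine h.coeff_ne_zero k (Finsupp.ext fun a => ?_)
  by_cases ha : a ∈ Δ'
  · rw [← e2]; exact Finsupp.notMem_support_iff.mp fun h' => (hd h').2 ha
  · rw [← e1]; exact Finsupp.notMem_support_iff.mp fun h' => ha (hc h')

end GrothLib.RootDatum
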