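import Groth.Agent.Lib.RootDatum.Weyl
import Mathlib.LinearAlgebra.LinearIndependent.Lemmas

/-!
Recognising systems of simple roots from rational cones.
-/

set_option linter.unusedSectionVars false
set_option linter.style.haveILetI false

namespace GrothLib.RootDatum

open Function Set Module RootPairing

variable {ι R M N : Type*} [CommRing R] [AddCommGroup M] [Module R M] [AddCommGroup N] [Module R N]
  {P : RootPairing ι R M N} [Finite ι] [P.IsCrystallographic] [CharZero R] [IsDomain R]

theorem counts_eq_of_sum_eq [DecidableEq ι] {Δ : Set ι} (hli : LinearIndepOn ℤ P.root Δ) {l l' : List ι}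
    (hl : ∀ a ∈ l, a ∈ Δ) (hl' : ∀ a ∈ l', a ∈ Δ)
    (heq : (l.map P.root).sum = (l'.map P.root).sum) (a : ι) : l.count a = l'.count a := by
  let c : List ι → (ι →₀ ℤ) := fun l => (l.map fun a => Finsupp.single a (1 : ℤ)).sum
  have hlc : ∀ l : List ι, Finsupp.linearCombination ℤ P.root (c l) = (l.map P.root).sum := fun l => by
    simp only [c, map_list_sum, List.map_map]
    exact congrArg List.sum (List.map_congr_left fun a _ => by simp)
  have happ : ∀ (l : List ι) a, c l a = (l.count a : ℤ) := fun l a => by
    induction l with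
    | nil => simp [c]
    | cons b t ih =>
      simp only [c, List.map_cons, List.sum_cons, Finsupp.add_apply] at ih ⊢
      rw [ih, List.count_cons, Finsupp.single_apply]
      by_cases hb : b = a <;> simp [hb, add_comm]
  have hsupp : ∀ l : List ι, (∀ a ∈ l, a ∈ Δ) → c l ∈ Finsupp.supported ℤ ℤ Δ := fun l hl => by
    rw [Finsupp.mem_supported]
    intro a ha
    refine hl a (List.count_pos_iff.mp (Nat.pos_of_ne_zero fun h0 => ?_))
    exact Finsupp.mem_support_iff.mp ha (by rw [happ, h0, Nat.cast_zero])
  have h0 : c l - c l' = 0 :=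
    linearIndepOn_iff.mp hli _ (sub_mem (hsupp l hl) (hsupp l' hl')) (by rw [map_sub, hlc, hlc, heq, sub_self])
  have := congrArg (fun f : ι →₀ ℤ => f a) h0
  simp only [Finsupp.sub_apply, happ, Finsupp.coe_zero, Pi.zero_apply] at this
  omega

theorem length_eq_of_sum_eq {Δ : Set ι} (hli : LinearIndepOn ℤ P.root Δ) {l l' : List ι}
    (hl : ∀ a ∈ l, a ∈ Δ) (hl' : ∀ a ∈ l', a ∈ Δ)
    (heq : (l.map P.root).sum = (l'.map P.root).sum) : l.length = l'.length := by
  classical
  exact ((List.perm_iff_count).mpr (counts_eq_of_sum_eq hli hl hl' heq)).length_eq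

theorem eq_simpleOf_of_subset {S Δ : Set ι} (hS : RootD.IsPosSys P S) (hsub : Δ ⊆ simpleOf P S)
    (hgen : ∀ a ∈ S, ∃ n : ℕ, 0 < n ∧ n • P.root a ∈ RootD.natSpan P Δ) : Δ = simpleOf P S := by
  classical
  refine hsub.antisymm fun a ha => ?_
  obtain ⟨n, hn, hna⟩ := hgen a ha.1
  obtain ⟨l, hl, hlk⟩ := exists_list_of_mem_natSpan P hna
  have := counts_eq_of_sum_eq (linearIndepOn_simpleOf hS) (l := List.replicate n a) (l' := l)
    (fun b hb => List.eq_of_mem_replicate hb ▸ ha) (fun b hb => hsub (hl b hb))
    (by rw [List.map_replicate, List.sum_replicate, hlk]) a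
  rw [List.count_replicate_self] at this
  exact hl a (List.count_pos_iff.mp (by omega))

/-- Indivisible independent roots generating every root up to sign as a rational cone form a
system of simple roots. -/
theorem isSimple_of_cone {Δ : Set ι} (hind : ∀ i ∈ Δ, RootD.IsIndiv P i)
    (hli : LinearIndepOn ℤ P.root Δ)
    (hcone : ∀ k, ∃ n : ℕ, 0 < n ∧ (n • P.root k ∈ RootD.natSpan P Δ ∨ n • (-P.root k) ∈ RootD.natSpan P Δ)) :
    IsSimple P Δ := by
  classical
  let S : Set ι := {k | ∃ n : ℕ, 0 < n ∧ n • P.root k ∈ RootD.natSpan P Δ}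
  have hS : RootD.IsPosSys P S := by
    refine isPosSys_of_closed ?_ (fun k => ?_) ?_
    · rintro k ⟨n, hn, hnk⟩ ⟨m, hm, hmk⟩
      rw [root_nr] at hmk
      obtain ⟨l, hl, hlk⟩ := exists_list_of_mem_natSpan P
        (add_mem (nsmul_mem hnk m) (nsmul_mem hmk n))
      have h0 : m • n • P.root k + n • m • -P.root k = 0 := by
        rw [smul_neg m, smul_neg n, smul_comm n m, add_neg_cancel]
      rw [h0] at hlk
      obtain ⟨l₁, hl₁, hlk₁⟩ := exists_list_of_mem_natSpan P hnk
      obtain ⟨l₂, hl₂, hlk₂⟩ := exists_list_of_mem_natSpan P hmk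
      have := length_eq_of_sum_eq hli (l := (List.replicate m l₁).flatten ++ (List.replicate n l₂).flatten)
        (l' := []) (fun a ha => by
          simp only [List.mem_append, List.mem_flatten, List.mem_replicate] at ha
          rcases ha with ⟨t, ⟨-, rfl⟩, ha⟩ | ⟨t, ⟨-, rfl⟩, ha⟩
          exacts [hl₁ a ha, hl₂ a ha]) (by simp)
        (by simp only [List.map_append, List.map_flatten, List.map_replicate, List.sum_append,
          List.sum_flatten, List.sum_replicate, ← hlk₁, ← hlk₂, h0, List.map_nil, List.sum_nil])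
      simp only [List.length_append, List.length_flatten, List.map_replicate, List.sum_replicate,
        List.length_nil, smul_eq_mul] at this
      have hl₁0 : l₁.length = 0 := by nlinarith
      rw [List.length_eq_zero_iff.mp hl₁0] at hlk₁
      have := torsionFree P
      exact root_ne_zero P k ((nsmul_eq_zero_iff_right hn.ne').mp (by simpa using hlk₁))
    · obtain ⟨n, hn, h⟩ := hcone k
      exact h.imp (fun h => ⟨n, hn, h⟩) fun h => ⟨n, hn, by rwa [root_nr]⟩
    · rintro i j k ⟨n, hn, hni⟩ ⟨m, hm, hmj⟩ e
      refine ⟨n * m, Nat.mul_pos hn hm, ?_⟩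
      rw [e, smul_add (n * m)]
      refine add_mem ?_ ?_
      · rw [mul_comm, mul_smul]; exact nsmul_mem hni m
      · rw [mul_smul]; exact nsmul_mem hmj n
  have h₀ := isSimple_simpleOf P hS
  have hsub : Δ ⊆ simpleOf P S := by
    intro a ha
    have haS : a ∈ S := ⟨1, one_pos, by rw [one_smul]; exact root_mem_natSpan P ha⟩
    obtain ⟨l, hl, hlk⟩ := exists_list_of_mem_natSpan P (mem_natSpan_simpleOf hS haS)
    -- every member of `l` is proportional to `a`
    obtain ⟨b, t, rfl⟩ : ∃ b t, l = b :: t := by
      rcases l with _ | ⟨b, t⟩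
      · exact absurd (by simpa using hlk) (root_ne_zero P a)
      · exact ⟨b, t, rfl⟩
    have hb := hl b (by simp)
    choose n hn hnb using fun x (hx : x ∈ simpleOf P S) => hx.1
    obtain ⟨l₁, hl₁, hlk₁⟩ := exists_list_of_mem_natSpan P (hnb b hb)
    have hprop : ∀ x ∈ l₁, x = a := by
      intro x hx
      by_contra hne
      have key : ∀ t : List ι, (∀ y ∈ t, y ∈ simpleOf P S) →
          ∃ (N : ℕ) (u : List ι), 0 < N ∧ (∀ y ∈ u, y ∈ Δ) ∧ N • (t.map P.root).sum = (u.map P.root).sum := by
        intro t ht
        induction t with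
        | nil => exact ⟨1, [], one_pos, by simp, by simp⟩
        | cons y t ih =>
          obtain ⟨N, u, hN, hu, hut⟩ := ih fun z hz => ht z (List.mem_cons_of_mem y hz)
          obtain ⟨w, hw, hwy⟩ := exists_list_of_mem_natSpan P (hnb y (ht y (by simp)))
          refine ⟨N * n y (ht y (by simp)),
            (List.replicate N w).flatten ++ (List.replicate (n y (ht y (by simp))) u).flatten,
            Nat.mul_pos hN (hn _ _), ?_, ?_⟩
          · intro z hz
            simp only [List.mem_append, List.mem_flatten, List.mem_replicate] at hz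
            rcases hz with ⟨_, ⟨-, rfl⟩, hz⟩ | ⟨_, ⟨-, rfl⟩, hz⟩
            exacts [hw z hz, hu z hz]
          · simp [List.map_flatten, List.sum_flatten, ← hwy, ← hut, mul_smul, smul_add,
              smul_comm N (n y _)]
      obtain ⟨N, u, hN, hu, hut⟩ := key t fun y hy => hl y (List.mem_cons_of_mem b hy)
      have heq := counts_eq_of_sum_eq hli
        (l := List.replicate (n b hb * N) a)
        (l' := (List.replicate N l₁).flatten ++ (List.replicate (n b hb) u).flatten)
        (fun y hy => List.eq_of_mem_replicate hy ▸ ha)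
        (fun y hy => by
          simp only [List.mem_append, List.mem_flatten, List.mem_replicate] at hy
          rcases hy with ⟨_, ⟨-, rfl⟩, hy⟩ | ⟨_, ⟨-, rfl⟩, hy⟩
          exacts [hl₁ y hy, hu y hy])
        (by
          simp only [List.map_replicate, List.sum_replicate, List.map_append, List.map_flatten,
            List.sum_append, List.sum_flatten, ← hlk₁, ← hut]
          rw [hlk, List.map_cons, List.sum_cons, smul_add, mul_comm, mul_smul N, mul_comm,
            mul_smul (n b hb)]) x
      rw [List.count_replicate, if_neg (by simpa using Ne.symm hne), List.count_append,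
        List.count_flatten, List.map_replicate, List.sum_replicate] at heq
      have := List.count_pos_iff.mpr hx
      simp only [smul_eq_mul] at heq
      nlinarith
    have hba : (n b hb : ℤ) • P.root b = (l₁.length : ℤ) • P.root a := by
      rw [natCast_zsmul, hlk₁, natCast_zsmul]
      conv_lhs => rw [List.eq_replicate_iff.mpr ⟨rfl, hprop⟩]
      simp
    have := hn b hb
    have hne₁ : l₁.length ≠ 0 := fun h0 => by
      rw [List.length_eq_zero_iff.mp h0] at hlk₁
      have := torsionFree P
      exact root_ne_zero P b ((nsmul_eq_zero_iff_right (hn b hb).ne').mp (by simpa using hlk₁))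
    rcases proportional_cases P (by omega) hba with e | e | e | e | e | e
    · exact e.1 ▸ hb
    · exact absurd e.2 (by omega)
    · exact absurd e.1 ((isIndiv_iff P b).mp (h₀.isIndiv hb) a)
    · exact absurd e.2 (by omega)
    · exact absurd e.1 ((isIndiv_iff P a).mp (hind a ha) b)
    · exact absurd e.2 (by omega)
  rw [eq_simpleOf_of_subset hS hsub fun a ha => ha]
  exact h₀

end GrothLib.RootDatum
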