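import Groth.Agent.Lib.RootDatum.Weyl
import Mathlib.LinearAlgebra.FreeModule.PID
import Mathlib.Algebra.Module.Torsion.Basic
import Mathlib.Algebra.Polynomial.Roots

/-!
Positive systems adapted to a rationally saturated set of roots.
-/

set_option linter.unusedSectionVars false
set_option linter.style.haveILetI false

namespace GrothLib.RootDatum

open Function Set Module RootPairing

/-- Finitely many non-zero vectors of `ℤ^d` admit a functional vanishing on none of them. -/
theorem exists_coord_hom_ne_zero {ι : Type*} [Finite ι] {d : ℕ} (v : ι → Fin d → ℤ)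
    (hv : ∀ i, v i ≠ 0) : ∃ f : (Fin d → ℤ) →ₗ[ℤ] ℤ, ∀ i, f (v i) ≠ 0 := by
  classical
  haveI := Fintype.ofFinite ι
  let p : ι → Polynomial ℤ := fun i => ∑ j, Polynomial.C (v i j) * Polynomial.X ^ (j : ℕ)
  have hp : ∀ i, p i ≠ 0 := fun i h0 => hv i (funext fun j => by
    have := congrArg (fun q : Polynomial ℤ => q.coeff j) h0
    simpa [p, Polynomial.finsetSum_coeff, Polynomial.coeff_C_mul, Polynomial.coeff_X_pow,
      Fin.val_inj] using this)
  obtain ⟨t, ht⟩ : ∃ t : ℤ, (∏ i, p i).eval t ≠ 0 := by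
    by_contra! hc
    exact Finset.prod_ne_zero_iff.mpr (fun i _ => hp i) (Polynomial.funext (by simpa using hc))
  refine ⟨∑ j : Fin d, (t ^ (j : ℕ)) • LinearMap.proj (R := ℤ) (φ := fun _ : Fin d => ℤ) j, fun i hi => ?_⟩
  rw [Polynomial.eval_prod, Finset.prod_ne_zero_iff] at ht
  refine ht i (Finset.mem_univ i) ?_
  simpa [p, Polynomial.eval_finsetSum, mul_comm] using hi

variable {ι R M N : Type*} [CommRing R] [AddCommGroup M] [Module R M] [AddCommGroup N] [Module R N]
  (P : RootPairing ι R M N)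

/-- The roots having a positive multiple in `V`. -/
def satTrace (V : Submodule ℤ M) : Set ι := {k | ∃ n : ℕ, 0 < n ∧ n • P.root k ∈ V}

theorem span_satTrace {V : Submodule ℤ M} {x : M}
    (hx : x ∈ Submodule.span ℤ (P.root '' satTrace P V)) : ∃ n : ℕ, 0 < n ∧ n • x ∈ V := by
  induction hx using Submodule.span_induction with
  | mem y hy => obtain ⟨k, hk, rfl⟩ := hy; exact hk
  | zero => exact ⟨1, one_pos, by simp⟩
  | add x y _ _ hx hy =>
    obtain ⟨n, hn, hnx⟩ := hx
    obtain ⟨m, hm, hmy⟩ := hy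
    refine ⟨n * m, Nat.mul_pos hn hm, ?_⟩
    rw [smul_add (n * m)]
    refine Submodule.add_mem _ ?_ ?_
    · rw [mul_comm, mul_smul]; exact Submodule.smul_of_tower_mem _ m hnx
    · rw [mul_smul]; exact Submodule.smul_of_tower_mem _ n hmy
  | smul z x _ hx =>
    obtain ⟨n, hn, hnx⟩ := hx
    exact ⟨n, hn, by rw [smul_comm]; exact Submodule.smul_mem _ z hnx⟩

/-- An odd additive integer function on the roots, with zero set the trace of `V`. -/
theorem exists_fun_zero_iff [Finite ι] (V : Submodule ℤ M) :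
    ∃ f : ι → ℤ, (∀ k, f (nr P k) = -f k) ∧
      (∀ i j k, P.root k = P.root i + P.root j → f k = f i + f j) ∧
      ∀ k, f k = 0 ↔ k ∈ satTrace P V := by
  classical
  let L := Submodule.span ℤ (range P.root)
  haveI : Module.Finite ℤ L := Module.Finite.span_of_finite ℤ (Set.finite_range _)
  let Q₀ := L ⧸ V.comap L.subtype
  let Q := Q₀ ⧸ Submodule.torsion ℤ Q₀
  obtain ⟨d, b⟩ := Module.basisOfFiniteTypeTorsionFree' (R := ℤ) (M := Q)
  let π : L →ₗ[ℤ] Q := (Submodule.torsion ℤ Q₀).mkQ ∘ₗ (V.comap L.subtype).mkQ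
  let r : ι → L := fun k => ⟨P.root k, Submodule.subset_span ⟨k, rfl⟩⟩
  have hzero : ∀ k, π (r k) = 0 ↔ k ∈ satTrace P V := fun k => by
    change (Submodule.torsion ℤ Q₀).mkQ ((V.comap L.subtype).mkQ (r k)) = 0 ↔ _
    rw [Submodule.mkQ_apply, Submodule.mkQ_apply, Submodule.Quotient.mk_eq_zero,
      Submodule.mem_torsion_iff]
    constructor
    · rintro ⟨⟨z, hz⟩, hzk⟩
      rw [mem_nonZeroDivisors_iff_ne_zero] at hz
      rw [Submonoid.mk_smul, ← Submodule.Quotient.mk_smul, Submodule.Quotient.mk_eq_zero] at hzk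
      refine ⟨z.natAbs, Int.natAbs_pos.mpr hz, ?_⟩
      have : z • P.root k ∈ V := hzk
      rw [← natCast_zsmul]
      rcases Int.natAbs_eq z with e | e
      · rwa [← e]
      · rw [show ((z.natAbs : ℤ)) = -z by omega, neg_smul]
        exact Submodule.neg_mem _ this
    · rintro ⟨n, hn, hnk⟩
      refine ⟨⟨(n : ℤ), mem_nonZeroDivisors_iff_ne_zero.mpr (by omega)⟩, ?_⟩
      rw [Submonoid.mk_smul, ← Submodule.Quotient.mk_smul, Submodule.Quotient.mk_eq_zero,
        natCast_zsmul]
      exact hnk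
  let v : {k // k ∉ satTrace P V} → Fin d → ℤ := fun k => b.equivFun (π (r k))
  obtain ⟨g, hg⟩ := exists_coord_hom_ne_zero v fun k h0 =>
    k.2 ((hzero k).mp (b.equivFun.map_eq_zero_iff.mp h0))
  refine ⟨fun k => g (b.equivFun (π (r k))), fun k => ?_, fun i j k h => ?_, fun k => ⟨fun h0 => ?_, fun hk => ?_⟩⟩
  · simp only
    rw [show r (nr P k) = -r k from Subtype.ext (root_nr P k), map_neg, map_neg, map_neg]
  · simp only
    rw [show r k = r i + r j from Subtype.ext h, map_add, map_add, map_add]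
  · by_contra hk
    exact hg ⟨k, hk⟩ h0
  · simp [(hzero k).mpr hk]

section Crystallographic

variable {P} [Finite ι] [P.IsCrystallographic] [CharZero R] [IsDomain R]

variable (P) in
theorem exists_isPosSys : ∃ S : Set ι, RootD.IsPosSys P S := by
  obtain ⟨f, hneg, hadd, hzero⟩ := exists_fun_zero_iff P ⊥
  refine ⟨_, isPosSys_of_hom f (fun k hk => ?_) hneg hadd⟩
  obtain ⟨n, hn, hnk⟩ := (hzero k).mp hk
  have := torsionFree P
  exact root_ne_zero P k ((nsmul_eq_zero_iff_right hn.ne').mp ((Submodule.mem_bot ℤ).mp hnk))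

variable (P) in
theorem exists_isPosSys_mem (i : ι) : ∃ S : Set ι, RootD.IsPosSys P S ∧ i ∈ S := by
  obtain ⟨S, hS⟩ := exists_isPosSys P
  rcases hS.cover i with h | h
  · exact ⟨S, hS, h⟩
  · exact ⟨_, isPosSys_image (refl P i) hS, ⟨_, h, P.reflectionPerm_self i i⟩⟩

/-- A positive system of the trace of `V` extends to a system of simple roots of `P` adapted to it. -/
theorem exists_adapted (V : Submodule ℤ M) {S' : Set ι} (hS' : S' ⊆ satTrace P V)
    (hd : ∀ ⦃i⦄, i ∈ S' → nr P i ∉ S') (hcov : ∀ i ∈ satTrace P V, i ∈ S' ∨ nr P i ∈ S')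
    (hcl : RootD.IsClosedSub P S') (k₀ : ι) :
    ∃ Δ : Set ι, IsSimple P Δ ∧ RootD.posOf P Δ ∩ satTrace P V = S' ∧
      (∀ i ∈ RootD.posOf P Δ, ∀ j ∈ RootD.posOf P Δ, ∀ k ∈ satTrace P V,
        P.root k = P.root i + P.root j → i ∈ S' ∧ j ∈ S') ∧
      (∀ k ∈ S', P.root k ∈ RootD.natSpan P (Δ ∩ satTrace P V)) ∧
      satTrace P V = {k | P.root k ∈ Submodule.span ℤ (P.root '' (Δ ∩ satTrace P V))} ∧
      (k₀ ∉ satTrace P V → k₀ ∈ RootD.posOf P Δ) := by
  classical
  obtain ⟨f₀, hneg₀, hadd₀, hzero₀⟩ := exists_fun_zero_iff P V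
  obtain ⟨f, hneg, hadd, hzero, hk₀⟩ : ∃ f : ι → ℤ, (∀ k, f (nr P k) = -f k) ∧
      (∀ i j k, P.root k = P.root i + P.root j → f k = f i + f j) ∧
      (∀ k, f k = 0 ↔ k ∈ satTrace P V) ∧ (k₀ ∉ satTrace P V → 0 < f k₀) := by
    rcases lt_or_ge 0 (f₀ k₀) with h | h
    · exact ⟨f₀, hneg₀, hadd₀, hzero₀, fun _ => h⟩
    · refine ⟨-f₀, fun k => by simp [hneg₀ k], fun i j k e => by simp [hadd₀ i j k e]; ring,
        fun k => by simp [hzero₀ k], fun hk => ?_⟩
      have : f₀ k₀ ≠ 0 := fun e => hk ((hzero₀ k₀).mp e)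
      simp only [Pi.neg_apply]
      omega
  have hz : ∀ {k}, k ∈ S' → f k = 0 := fun hk => (hzero _).mpr (hS' hk)
  let S : Set ι := {k | 0 < f k} ∪ S'
  have hS : RootD.IsPosSys P S := by
    refine isPosSys_of_closed ?_ (fun i => ?_) ?_
    · rintro i (hi | hi) (hi' | hi')
      · change 0 < f i at hi; change 0 < f _ at hi'; rw [hneg] at hi'; omega
      · change 0 < f i at hi; have := hz hi'; rw [hneg] at this; omega
      · have := hz hi; change 0 < f _ at hi'; rw [hneg] at hi'; omega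
      · exact hd hi hi'
    · rcases lt_trichotomy (f i) 0 with h | h | h
      · exact Or.inr (Or.inl (show 0 < f _ by rw [hneg]; omega))
      · exact (hcov i ((hzero i).mp h)).imp Or.inr Or.inr
      · exact Or.inl (Or.inl h)
    · intro i j k hi hj e
      rcases hi with hi | hi <;> rcases hj with hj | hj
      · exact Or.inl (show 0 < f k by rw [hadd i j k e]; exact add_pos hi hj)
      · exact Or.inl (show 0 < f k by rw [hadd i j k e, hz hj, add_zero]; exact hi)
      · exact Or.inl (show 0 < f k by rw [hadd i j k e, hz hi, zero_add]; exact hj)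
      · exact Or.inr (hcl hi hj e)
  have h := isSimple_simpleOf P hS
  have hpos := posOf_simpleOf hS
  have hnn : ∀ {i}, i ∈ S → 0 ≤ f i := by
    rintro i (hi | hi)
    · exact le_of_lt hi
    · exact (hz hi).ge
  have hSS' : ∀ {i}, i ∈ S → f i = 0 → i ∈ S' := by
    rintro i (hi | hi) h0
    · change 0 < f i at hi; omega
    · exact hi
  have hsplit : ∀ i ∈ S, ∀ j ∈ S, ∀ k ∈ satTrace P V, P.root k = P.root i + P.root j →
      i ∈ S' ∧ j ∈ S' := fun i hi j hj k hk e => by
    have := hadd i j k e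
    have := (hzero k).mpr hk
    have := hnn hi
    have := hnn hj
    exact ⟨hSS' hi (by omega), hSS' hj (by omega)⟩
  have hspan : ∀ k ∈ S', P.root k ∈ RootD.natSpan P (simpleOf P S ∩ satTrace P V) := by
    intro k
    induction hn : (h.ht k).toNat using Nat.strongRecOn generalizing k with
    | ind n ih =>
      intro hk
      by_cases hkΔ : k ∈ simpleOf P S
      · exact root_mem_natSpan P ⟨hkΔ, hS' hk⟩
      have hkS : k ∈ S := Or.inr hk
      obtain ⟨i, hi, j, hj, hij⟩ : ∃ i ∈ S, ∃ j ∈ S, P.root k = P.root i + P.root j := by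
        simpa [simpleOf, hkS] using hkΔ
      obtain ⟨hi', hj'⟩ := hsplit i hi j hj k (hS' hk) hij
      have := h.ht_add hij
      have := h.ht_pos (hpos.symm ▸ hi)
      have := h.ht_pos (hpos.symm ▸ hj)
      rw [hij]
      exact add_mem (ih (h.ht i).toNat (by omega) i rfl hi') (ih (h.ht j).toNat (by omega) j rfl hj')
  refine ⟨simpleOf P S, h, ?_, by rw [hpos]; exact hsplit, hspan, ?_, fun hk => ?_⟩
  · rw [hpos]
    ext k
    exact ⟨fun hk => hSS' hk.1 ((hzero k).mpr hk.2), fun hk => ⟨Or.inr hk, hS' hk⟩⟩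
  · refine subset_antisymm (fun k hk => ?_) (fun k hk => ?_)
    · show P.root k ∈ Submodule.span ℤ (P.root '' (simpleOf P S ∩ satTrace P V))
      rcases hcov k hk with hk' | hk'
      · exact natSpan_le_span P _ (hspan k hk')
      · have : P.root (nr P k) ∈ Submodule.span ℤ (P.root '' (simpleOf P S ∩ satTrace P V)) :=
          natSpan_le_span P _ (hspan _ hk')
        rw [root_nr] at this
        exact (Submodule.neg_mem_iff _).mp this
    · exact span_satTrace P (Submodule.span_mono (Set.image_mono Set.inter_subset_right) hk)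
  · rw [hpos]
    exact Or.inl (hk₀ hk)

end Crystallographic

end GrothLib.RootDatum
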