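import Groth.Agent.Lib.RootDatum.Component
import Groth.Agent.Lib.RootDatum.Cone

/-!
The dual root pairing: linear relations between coroots, positive systems, simple systems.
-/

set_option linter.unusedSectionVars false
set_option linter.style.haveILetI false

namespace GrothLib.RootDatum

open Function Set Module RootPairing

variable {ι R M N : Type*} [CommRing R] [AddCommGroup M] [Module R M] [AddCommGroup N] [Module R N]
  (P : RootPairing ι R M N)

theorem nr_flip (i : ι) : nr P.flip i = nr P i := rfl

variable [Finite ι] [P.IsCrystallographic] [CharZero R] [IsDomain R]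

theorem pz_flip (i j : ι) : pz P.flip i j = pz P j i :=
  pz_inj P.flip (by rw [pairing_flip, cast_pz])

open scoped Classical in
/-- The product of the squared lengths of all indices but `a`. -/
noncomputable def wt (a : ι) : ℤ :=
  letI := Fintype.ofFinite ι
  ∏ b ∈ Finset.univ.erase a, qf P b b

open scoped Classical in
/-- The product of the squared lengths of all indices. -/
noncomputable def wtAll : ℤ :=
  letI := Fintype.ofFinite ι
  ∏ b, qf P b b

theorem wt_pos (a : ι) : 0 < wt P a := Finset.prod_pos fun b _ => qf_self_pos P b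

theorem wtAll_pos : 0 < wtAll P := Finset.prod_pos fun b _ => qf_self_pos P b

theorem qf_mul_wt (a : ι) : qf P a a * wt P a = wtAll P := by
  classical
  letI := Fintype.ofFinite ι
  exact Finset.mul_prod_erase _ (fun b => qf P b b) (Finset.mem_univ a)

theorem coroot_rel_iff (c : ι →₀ ℤ) :
    Finsupp.linearCombination ℤ P.coroot c = 0 ↔ (c.sum fun a n => (n * wt P a) • P.root a) = 0 := by
  set v : M := c.sum fun a n => (n * wt P a) • P.root a
  have hv : v ∈ Submodule.span ℤ (range P.root) :=
    Submodule.sum_mem _ fun a _ => Submodule.smul_mem _ _ (Submodule.subset_span ⟨a, rfl⟩)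
  have hu : Finsupp.linearCombination ℤ P.coroot c ∈ Submodule.span ℤ (range P.flip.root) := by
    rw [Finsupp.linearCombination_apply]
    exact Submodule.sum_mem _ fun a _ => Submodule.smul_mem _ _ (Submodule.subset_span ⟨a, rfl⟩)
  let A : ι → ℤ := fun q => c.sum fun a n => n * wt P a * pz P a q
  let B : ι → ℤ := fun q => c.sum fun a n => n * pz P q a
  have hA : ∀ q, P.coroot' q v = (A q : R) := fun q => by
    simp [v, A, Finsupp.sum, map_sum, map_zsmul, cast_pz]
  have hB : ∀ q, P.flip.coroot' q (Finsupp.linearCombination ℤ P.coroot c) = (B q : R) := fun q => by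
    have := coroot'_linearCombination P.flip c q
    simp only [pz_flip] at this
    exact this
  have key : ∀ q, A q * qf P q q = wtAll P * B q := fun q => by
    simp only [A, B, Finsupp.sum, Finset.sum_mul, Finset.mul_sum]
    refine Finset.sum_congr rfl fun a _ => ?_
    rw [mul_assoc, pz_mul_qf, ← qf_mul_wt P a]
    ring
  constructor
  · intro h0
    refine eq_zero_of_mem_span_of_coroot' P hv fun q => ?_
    have hB0 : B q = 0 := Int.cast_injective (α := R) (by rw [← hB, h0, map_zero, Int.cast_zero])
    have := key q
    rw [hB0, mul_zero] at this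
    rw [hA, (mul_eq_zero.mp this).resolve_right (qf_self_pos P q).ne', Int.cast_zero]
  · intro h0
    refine eq_zero_of_mem_span_of_coroot' P.flip hu fun q => ?_
    have hA0 : A q = 0 := Int.cast_injective (α := R) (by rw [← hA, h0, map_zero, Int.cast_zero])
    have := key q
    rw [hA0, zero_mul] at this
    rw [hB, (mul_eq_zero.mp this.symm).resolve_left (wtAll_pos P).ne', Int.cast_zero]

theorem coroot_eq_add_iff {i j k : ι} :
    P.coroot k = P.coroot i + P.coroot j ↔
      wt P k • P.root k = wt P i • P.root i + wt P j • P.root j := by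
  have := coroot_rel_iff P (Finsupp.single k 1 - Finsupp.single i 1 - Finsupp.single j 1)
  rw [Finsupp.sum_sub_index (fun a m n => by rw [sub_mul, sub_smul]),
    Finsupp.sum_sub_index (fun a m n => by rw [sub_mul, sub_smul]), Finsupp.sum_single_index (by simp),
    Finsupp.sum_single_index (by simp), Finsupp.sum_single_index (by simp)] at this
  simp only [map_sub, Finsupp.linearCombination_single, one_smul, one_mul, sub_eq_zero,
    sub_eq_iff_eq_add, zero_add] at this
  rw [add_comm (P.coroot i), this, add_comm]

variable {P}

theorem isPosSys_flip {S : Set ι} (hS : RootD.IsPosSys P S) : RootD.IsPosSys P.flip S := by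
  refine isPosSys_of_closed (fun i hi => hS.disjoint hi) hS.cover ?_
  intro i j k hi hj hk
  have h := (coroot_eq_add_iff P).mp hk
  refine hS.sat (wt P k).toNat (by have := wt_pos P k; omega) ?_
  have hk' : ((wt P k).toNat : ℤ) • P.root k = wt P k • P.root k := by
    rw [Int.toNat_of_nonneg (wt_pos P k).le]
  rw [← natCast_zsmul, hk', h]
  refine add_mem ?_ ?_
  · rw [← Int.toNat_of_nonneg (wt_pos P i).le, natCast_zsmul]
    exact nsmul_mem (root_mem_natSpan P hi) _
  · rw [← Int.toNat_of_nonneg (wt_pos P j).le, natCast_zsmul]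
    exact nsmul_mem (root_mem_natSpan P hj) _

theorem two_coroot_iff {i j : ι} :
    (2 : ℤ) • P.coroot j = P.coroot i ↔ P.root j = (2 : ℤ) • P.root i := by
  constructor
  · intro h
    have := coroot_of_root_eq_two_smul P.flip (i := j) (k := i) h.symm
    simp only [RootPairing.flip] at this
    rw [this, two_smul_eq]
  · intro h
    rw [coroot_of_root_eq_two_smul P h, two_smul R, two_smul ℤ]

variable (P) in
/-- The indices of the dual simple system attached to `Δ`. -/
def indCoroots (Δ : Set ι) : Set ι :=
  {j : ι | ∃ i ∈ Δ, (j = i ∧ RootD.IsIndiv P.flip i) ∨ (2 : ℤ) • P.coroot j = P.coroot i}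

theorem IsSimple.indCoroots_eq {Δ : Set ι} (h : IsSimple P Δ) :
    indCoroots P Δ = simpleOf P.flip (RootD.posOf P Δ) := by
  classical
  set S := RootD.posOf P Δ
  have hS := isPosSys_flip h.isPosSys_posOf
  set E := simpleOf P.flip S
  have hE := isSimple_simpleOf P.flip hS
  -- the coroot of a simple root is, up to the factor two, an indecomposable positive coroot
  have main : ∀ i ∈ Δ, ∃ j, j ∈ E ∧ ((j = i ∧ RootD.IsIndiv P.flip i) ∨
      (2 : ℤ) • P.coroot j = P.coroot i) := by
    intro i hi
    obtain ⟨l, hl, hlk⟩ := exists_list_of_mem_natSpan P.flip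
      (mem_natSpan_simpleOf hS (h.subset_posOf hi))
    rcases l with _ | ⟨b, t⟩
    · exact absurd (by simpa using hlk) (P.ne_zero' i)
    have hrel : wt P i • P.root i = ((b :: t).map fun x => wt P x • P.root x).sum := by
      let c : ι →₀ ℤ := Finsupp.single i 1 - ((b :: t).map fun x => Finsupp.single x (1 : ℤ)).sum
      have h0 : Finsupp.linearCombination ℤ P.coroot c = 0 := by
        rw [map_sub, Finsupp.linearCombination_single, one_smul, map_list_sum, List.map_map, sub_eq_zero]
        refine (Eq.trans ?_ hlk.symm).symm
        exact congrArg List.sum (List.map_congr_left fun a _ => by simp)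
      have h1 := (coroot_rel_iff P c).mp h0
      rw [Finsupp.sum_sub_index (fun a m n => by rw [sub_mul, sub_smul]),
        Finsupp.sum_single_index (by simp), one_mul, sub_eq_zero] at h1
      rw [h1]
      clear h1 h0 c hlk hl
      induction (b :: t) with
      | nil => simp
      | cons x u ih =>
        rw [List.map_cons, List.sum_cons, List.map_cons, List.sum_cons,
          Finsupp.sum_add_index' (fun a => by simp) (fun a m n => by rw [add_mul, add_smul]),
          Finsupp.sum_single_index (by simp), one_mul, ih]
    have hzero : ∀ a, a ≠ i → h.coeff b a = 0 := by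
      intro a ha
      have hsum : (wt P i • h.coeff i) = ((b :: t).map fun x => wt P x • h.coeff x).sum := by
        refine h.eq_of_linearCombination_eq
          ((Finset.coe_subset.mpr Finsupp.support_smul).trans (h.coeff_support i)) ?_ ?_
        · intro x hx
          by_contra hn
          refine Finsupp.mem_support_iff.mp hx ?_
          clear hrel hlk hl hx
          induction (b :: t) with
          | nil => simp
          | cons y u ih => simp [ih, h.coeff_notMem hn]
        · rw [map_smul, h.linearCombination_coeff, hrel, map_list_sum, List.map_map]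
          exact congrArg List.sum (List.map_congr_left fun x _ => by
            simp [map_zsmul, h.linearCombination_coeff])
      have e := congrArg (fun f : ι →₀ ℤ => f a) hsum
      simp only [List.map_cons, List.sum_cons, Finsupp.smul_apply, Finsupp.add_apply, h.coeff_self hi,
        Finsupp.single_eq_of_ne ha, smul_zero] at e
      have hnn : ∀ x ∈ b :: t, 0 ≤ h.coeff x a := fun x hx => h.mem_posOf_iff.mp (hl x hx).1 a
      have hrest : 0 ≤ ((t.map fun x => wt P x • h.coeff x).sum : ι →₀ ℤ) a := by
        clear e hsum hrel hlk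
        induction t with
        | nil => simp
        | cons y u ih =>
          simp only [List.map_cons, List.sum_cons, Finsupp.add_apply, Finsupp.smul_apply, smul_eq_mul]
          have := mul_nonneg (wt_pos P y).le (hnn y (by simp))
          have := ih (fun x hx => hl x (by
            rcases List.mem_cons.mp hx with rfl | hx <;> simp_all)) (fun x hx => hnn x (by
            rcases List.mem_cons.mp hx with rfl | hx <;> simp_all))
          omega
      have hb0 : wt P b * h.coeff b a = 0 := by
        have := mul_nonneg (wt_pos P b).le (hnn b (by simp))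
        simp only [smul_eq_mul] at e
        omega
      exact (mul_eq_zero.mp hb0).resolve_left (wt_pos P b).ne'
    have hbE : b ∈ E := hl b (by simp)
    refine ⟨b, hbE, ?_⟩
    rcases h.multiple_cases hi hzero with e | e | e | e
    · exact Or.inl ⟨e, e ▸ hE.isIndiv hbE⟩
    · exact absurd hbE.1 (by rw [e]; exact h.isPosSys_posOf.disjoint (h.subset_posOf hi))
    · exact Or.inr (two_coroot_iff.mpr e)
    · exfalso
      have hp := h.mem_posOf_iff.mp hbE.1 i
      rw [h.coeff_smul e, h.coeff_self hi] at hp
      simp at hp
  ext j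
  constructor
  · rintro ⟨i, hi, hj⟩
    obtain ⟨b, hb, hb'⟩ := main i hi
    rcases hj with ⟨rfl, hjind⟩ | hj <;> rcases hb' with ⟨rfl, hbind⟩ | hb'
    · exact hb
    · exact absurd hb'.symm ((isIndiv_iff P.flip j).mp hjind b)
    · exact absurd hj.symm ((isIndiv_iff P.flip b).mp hbind j)
    · exact P.root.injective ((two_coroot_iff.mp hb').trans (two_coroot_iff.mp hj).symm) ▸ hb
  · intro hj
    have hsub : {e | ∃ i ∈ Δ, (e = i ∧ RootD.IsIndiv P.flip i) ∨ (2 : ℤ) • P.coroot e = P.coroot i} ∩ E ⊆ E :=
      Set.inter_subset_right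
    refine (Set.ext_iff.mp (eq_simpleOf_of_subset hS hsub ?_) j).mpr hj |>.1
    intro a ha
    have hcoe : ∀ i ∈ Δ, P.coroot i ∈ RootD.natSpan P.flip
        ({e | ∃ i ∈ Δ, (e = i ∧ RootD.IsIndiv P.flip i) ∨ (2 : ℤ) • P.coroot e = P.coroot i} ∩ E) := by
      intro i hi
      obtain ⟨b, hb, hb'⟩ := main i hi
      have hmem : b ∈ {e | ∃ i ∈ Δ, (e = i ∧ RootD.IsIndiv P.flip i) ∨ (2 : ℤ) • P.coroot e = P.coroot i} ∩ E :=
        ⟨⟨i, hi, hb'⟩, hb⟩
      rcases hb' with ⟨rfl, -⟩ | hb'
      · exact root_mem_natSpan P.flip hmem
      · rw [← hb', two_zsmul]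
        exact add_mem (root_mem_natSpan P.flip hmem) (root_mem_natSpan P.flip hmem)
    refine ⟨(wtAll P).toNat, by have := wtAll_pos P; omega, ?_⟩
    let d : ι →₀ ℤ := (h.coeff a).sum fun x n => Finsupp.single x (n * qf P x x * wt P a)
    have h0 : Finsupp.linearCombination ℤ P.coroot (Finsupp.single a (wtAll P) - d) = 0 := by
      rw [coroot_rel_iff, Finsupp.sum_sub_index (fun a m n => by rw [sub_mul, sub_smul]),
        Finsupp.sum_single_index (by simp), Finsupp.sum_sum_index (fun a => by simp)
          (fun a m n => by rw [add_mul, add_smul]), sub_eq_zero]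
      rw [← h.linearCombination_coeff a, Finsupp.linearCombination_apply, Finsupp.smul_sum]
      refine Finsupp.sum_congr fun x _ => ?_
      rw [Finsupp.sum_single_index (by simp), smul_smul, ← qf_mul_wt P x]
      congr 1
      ring
    rw [map_sub, Finsupp.linearCombination_single, sub_eq_zero] at h0
    rw [← natCast_zsmul, Int.toNat_of_nonneg (wtAll_pos P).le, show P.flip.root a = P.coroot a from rfl, h0]
    simp only [d, Finsupp.sum, map_sum, Finsupp.linearCombination_single]
    refine sum_mem fun x hx => ?_
    have hnn : 0 ≤ h.coeff a x * qf P x x * wt P a :=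
      mul_nonneg (mul_nonneg (h.mem_posOf_iff.mp ha x) (qf_self_pos P x).le) (wt_pos P a).le
    rw [← Int.toNat_of_nonneg hnn, natCast_zsmul]
    exact nsmul_mem (hcoe x (h.coeff_support a hx)) _

theorem IsSimple.flip {Δ : Set ι} (h : IsSimple P Δ) : IsSimple P.flip (indCoroots P Δ) :=
  h.indCoroots_eq ▸ isSimple_simpleOf P.flip (isPosSys_flip h.isPosSys_posOf)

theorem IsSimple.coroot'_nonneg {Δ : Set ι} (h : IsSimple P Δ) {v : M}
    {z : ι → ℤ} (hz : ∀ a, P.coroot' a v = (z a : R)) (hΔ : ∀ a ∈ Δ, 0 ≤ z a) {k : ι}
    (hk : k ∈ RootD.posOf P Δ) : 0 ≤ z k := by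
  have hS := isPosSys_flip h.isPosSys_posOf
  obtain ⟨l, hl, hlk⟩ := exists_list_of_mem_natSpan P.flip (mem_natSpan_simpleOf hS hk)
  have e : z k = (l.map z).sum := by
    apply Int.cast_injective (α := R)
    rw [← hz k]
    change P.toLinearMap v (P.coroot k) = _
    rw [show P.coroot k = (l.map P.flip.root).sum from hlk]
    clear hlk hl
    induction l with
    | nil => simp
    | cons a t ih =>
      simp only [List.map_cons, List.sum_cons, map_add, ih, Int.cast_add, ← hz a]
      rfl
  rw [e]
  refine List.sum_nonneg fun x hx => ?_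
  obtain ⟨a, ha, rfl⟩ := List.mem_map.mp hx
  have ha' : a ∈ indCoroots P Δ := h.indCoroots_eq.symm ▸ hl a ha
  obtain ⟨i, hi, ⟨rfl, -⟩ | h2⟩ := ha'
  · exact hΔ a hi
  · have : z i = 2 * z a := by
      apply Int.cast_injective (α := R)
      rw [← hz i, Int.cast_mul, ← hz a]
      change P.toLinearMap v (P.coroot i) = _
      rw [← h2, map_zsmul]
      simp
    have := hΔ i hi
    omega

end GrothLib.RootDatum
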