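import Groth.Agent.Lib.RootDatum.PosSys
import Mathlib.GroupTheory.Finiteness
import Mathlib.LinearAlgebra.Finsupp.Span

/-!
The Weyl group of a finite crystallographic root pairing and a system of simple roots:
simple reflections generate, the exchange condition, transitivity on positive systems, faithfulness.
-/

set_option linter.unusedSectionVars false
set_option linter.style.haveILetI false

namespace GrothLib.RootDatum

open Function Set Module RootPairing

variable {ι R M N : Type*} [CommRing R] [AddCommGroup M] [Module R M] [AddCommGroup N] [Module R N]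
  {P : RootPairing ι R M N}

/-- The reflection attached to an index, as an automorphism. -/
noncomputable abbrev refl (P : RootPairing ι R M N) (i : ι) : P.Aut :=
  RootPairing.Equiv.reflection P i

theorem refl_mul_self (i : ι) : refl P i * refl P i = 1 :=
  mul_eq_one_iff_eq_inv.mpr (RootPairing.Equiv.reflection_inv P i).symm

theorem refl_smul (i j : ι) : refl P i • j = P.reflectionPerm i j := rfl

theorem conj_refl (u : P.Aut) (i : ι) : u * refl P i * u⁻¹ = refl P (u • i) := by
  refine aut_ext fun x => ?_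
  rw [mul_smul, mul_smul]
  simp only [RootPairing.Equiv.reflection_smul, RootPairing.reflection_apply]
  rw [smul_sub, smul_inv_smul, smul_comm, smul_root, ← toLinearMap_smul_coroot u i (u⁻¹ • x),
    smul_inv_smul]

/-- The product of the reflections along a word. -/
noncomputable abbrev word (P : RootPairing ι R M N) (l : List ι) : P.Aut := (l.map (refl P)).prod

theorem word_mem_weylGroup (l : List ι) : word P l ∈ P.weylGroup :=
  list_prod_mem fun _ hx => by
    obtain ⟨i, -, rfl⟩ := List.mem_map.mp hx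
    exact P.reflection_mem_weylGroup i

theorem word_concat (l : List ι) (i : ι) : word P (l ++ [i]) = word P l * refl P i := by simp [word]

theorem exists_word_of_mem_closure {Δ : Set ι} {g : P.Aut}
    (hg : g ∈ Subgroup.closure (refl P '' Δ)) : ∃ l : List ι, (∀ a ∈ l, a ∈ Δ) ∧ word P l = g := by
  induction hg using Subgroup.closure_induction'' with
  | one => exact ⟨[], by simp, rfl⟩
  | mem x hx =>
    obtain ⟨i, hi, rfl⟩ := hx
    exact ⟨[i], by simpa using hi, by simp [word]⟩
  | inv_mem x hx =>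
    obtain ⟨i, hi, rfl⟩ := hx
    exact ⟨[i], by simpa using hi, by simp [word]⟩
  | mul x y _ _ hx hy =>
    obtain ⟨l, hl, rfl⟩ := hx
    obtain ⟨l', hl', rfl⟩ := hy
    exact ⟨l ++ l', fun a ha => (List.mem_append.mp ha).elim (hl a) (hl' a), by simp [word]⟩

theorem word_mem_closure {Δ : Set ι} {l : List ι} (hl : ∀ a ∈ l, a ∈ Δ) :
    word P l ∈ Subgroup.closure (refl P '' Δ) :=
  list_prod_mem fun _ hx => by
    obtain ⟨i, hi, rfl⟩ := List.mem_map.mp hx
    exact Subgroup.subset_closure ⟨i, hl i hi, rfl⟩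

theorem sub_mem_span_of_mem_weylGroup {g : P.Aut} (hg : g ∈ P.weylGroup) (x : M) :
    g • x - x ∈ Submodule.span R (range P.root) := by
  induction hg using RootPairing.weylGroup.induction generalizing x with
  | mem i =>
    rw [RootPairing.Equiv.reflection_smul, RootPairing.reflection_apply, sub_sub_cancel_left]
    exact Submodule.neg_mem _ (Submodule.smul_mem _ _ (Submodule.subset_span (mem_range_self i)))
  | one => simp
  | mul a b _ _ ha hb =>
    rw [mul_smul, ← sub_add_sub_cancel _ (b • x) x]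
    exact add_mem (ha _) (hb x)

theorem isClosedSub_image {S : Set ι} (g : P.Aut) (h : RootD.IsClosedSub P S) :
    RootD.IsClosedSub P ((fun i => g • i) '' S) := by
  rintro _ _ k ⟨i, hi, rfl⟩ ⟨j, hj, rfl⟩ hk
  exact ⟨g⁻¹ • k, h hi hj (by rw [← smul_root, hk, smul_add, smul_root, smul_root, inv_smul_smul,
    inv_smul_smul]), smul_inv_smul g k⟩

theorem mem_image_smul {S : Set ι} {g : P.Aut} {k : ι} :
    k ∈ (fun i => g • i) '' S ↔ g⁻¹ • k ∈ S :=
  ⟨by rintro ⟨i, hi, rfl⟩; simpa using hi, fun h => ⟨_, h, smul_inv_smul g k⟩⟩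

theorem smul_list_sum (g : P.Aut) (l : List M) : g • l.sum = (l.map (g • ·)).sum := by
  induction l with
  | nil => simp
  | cons a t ih => simp [smul_add, ih]

section Crystallographic

variable [Finite ι] [P.IsCrystallographic] [CharZero R] [IsDomain R]

theorem isPosSys_image {S : Set ι} (g : P.Aut) (h : RootD.IsPosSys P S) :
    RootD.IsPosSys P ((fun i => g • i) '' S) := by
  refine isPosSys_of_closed (fun i hi hi' => ?_) (fun i => ?_)
    (isClosedSub_image g (isPosSys_closed h))
  · rw [mem_image_smul] at hi hi'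
    exact h.disjoint hi (by rwa [smul_nr] at hi')
  · simp only [mem_image_smul, smul_nr]
    exact h.cover _

/-- An automorphism fixing all roots and moving every weight within the rational span of the roots
is trivial. -/
theorem aut_eq_one_of_fix {g : P.Aut} (hs : ∀ x : M, g • x - x ∈ Submodule.span R (range P.root))
    (hfix : ∀ i : ι, g • i = i) : g = 1 := by
  refine aut_ext fun x => ?_
  rw [one_smul, ← sub_eq_zero]
  haveI := Fintype.ofFinite ι
  refine Submodule.disjoint_def.mp P.disjoint_rootSpan_ker_rootForm _ (hs x) ?_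
  rw [LinearMap.mem_ker]
  ext y
  simp only [rootForm_apply_apply, LinearMap.zero_apply]
  refine Finset.sum_eq_zero fun q _ => ?_
  have := toLinearMap_smul_coroot g q x
  rw [hfix] at this
  rw [map_sub, this, sub_self, zero_mul]

theorem weylGroup_eq_one_of_fix {g : P.Aut} (hg : g ∈ P.weylGroup) (hfix : ∀ i : ι, g • i = i) :
    g = 1 :=
  aut_eq_one_of_fix (sub_mem_span_of_mem_weylGroup hg) hfix

variable (P) in
theorem finite_weylGroup : Set.Finite {g : P.Aut | g ∈ P.weylGroup} := by
  refine Set.Finite.of_finite_image (f := fun g => (MulAction.toPerm g : _root_.Equiv.Perm ι)) (Set.toFinite _) ?_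
  intro g hg h hh heq
  refine eq_of_inv_mul_eq_one (weylGroup_eq_one_of_fix (mul_mem (inv_mem hg) hh) fun i => ?_)
  rw [mul_smul, inv_smul_eq_iff]
  exact (congrArg (fun e : Equiv.Perm ι => e i) heq).symm

namespace IsSimple

open Finsupp

variable {Δ : Set ι} (h : IsSimple P Δ)
include h

theorem coeff_refl {i : ι} (hi : i ∈ Δ) (k : ι) :
    h.coeff (P.reflectionPerm i k) = h.coeff k - single i (pz P k i) := by
  classical
  refine (h.eq_coeff ?_ ?_).symm
  · refine (Finset.coe_subset.mpr Finsupp.support_sub).trans ?_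
    rw [Finset.coe_union]
    exact union_subset (h.coeff_support k) ((Finset.coe_subset.mpr support_single_subset).trans
      (by simpa using hi))
  · rw [map_sub, h.linearCombination_coeff, linearCombination_single, root_refl]

theorem coeff_refl_of_ne {i : ι} (hi : i ∈ Δ) (k : ι) {a : ι} (ha : a ≠ i) :
    h.coeff (P.reflectionPerm i k) a = h.coeff k a := by
  rw [h.coeff_refl hi, Finsupp.sub_apply, single_eq_of_ne ha, sub_zero]

theorem multiple_cases {i : ι} (hi : i ∈ Δ) {k : ι} (hk : ∀ a, a ≠ i → h.coeff k a = 0) :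
    k = i ∨ k = nr P i ∨ P.root k = (2 : ℤ) • P.root i ∨ P.root k = (-2 : ℤ) • P.root i := by
  classical
  have hc : h.coeff k = single i (h.coeff k i) := Finsupp.ext fun a => by
    rcases eq_or_ne a i with rfl | ha
    · rw [single_eq_same]
    · rw [hk a ha, single_eq_of_ne ha]
  have hroot : (1 : ℤ) • P.root k = h.coeff k i • P.root i := by
    rw [one_smul, ← h.linearCombination_coeff k]
    nth_rw 1 [hc]
    rw [linearCombination_single]
  rcases proportional_cases P one_ne_zero hroot with e | e | e | e | e | e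
  · exact Or.inl e.1
  · exact Or.inr (Or.inl e.1)
  · exact Or.inr (Or.inr (Or.inl e.1))
  · exact Or.inr (Or.inr (Or.inr e.1))
  · omega
  · omega

theorem refl_smul_mem_posOf {i k : ι} (hi : i ∈ Δ) (hk : k ∈ RootD.posOf P Δ)
    (hne : k ≠ i) (hne2 : P.root k ≠ (2 : ℤ) • P.root i) :
    P.reflectionPerm i k ∈ RootD.posOf P Δ := by
  rw [h.mem_posOf_iff] at hk
  obtain ⟨a, hai, hpos⟩ : ∃ a, a ≠ i ∧ 0 < h.coeff k a := by
    by_contra! hc
    have hpi := hk i
    rcases h.multiple_cases hi fun a ha => le_antisymm (hc a ha) (hk a) with e | e | e | e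
    · exact hne e
    · simp [e, h.coeff_nr, h.coeff_self hi] at hpi
    · exact hne2 e
    · simp [h.coeff_smul e, h.coeff_self hi] at hpi
  rw [h.mem_posOf_iff]
  exact h.coeff_nonneg_of_pos (a := a) (by rwa [h.coeff_refl_of_ne hi k hai])

theorem refl_smul_mem_posOf_of_indiv {i k : ι} (hi : i ∈ Δ) (hk : k ∈ RootD.posOf P Δ)
    (hne : k ≠ i) (hind : RootD.IsIndiv P k) : P.reflectionPerm i k ∈ RootD.posOf P Δ :=
  h.refl_smul_mem_posOf hi hk hne ((isIndiv_iff P k).mp hind i)

/-- The height of a root along a simple system. -/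
noncomputable def ht (k : ι) : ℤ := (h.coeff k).sum fun _ a => a

theorem ht_nr (k : ι) : h.ht (nr P k) = -h.ht k := by
  simp [ht, h.coeff_nr, Finsupp.sum, Finsupp.support_neg]

theorem ht_add {i j k : ι} (hk : P.root k = P.root i + P.root j) : h.ht k = h.ht i + h.ht j := by
  simp only [ht, h.coeff_add hk]
  exact Finsupp.sum_add_index' (fun _ => rfl) (fun _ _ _ => rfl)

theorem ht_refl {i : ι} (hi : i ∈ Δ) (k : ι) :
    h.ht (P.reflectionPerm i k) = h.ht k - pz P k i := by
  classical
  simp [ht, h.coeff_refl hi, Finsupp.sum_sub_index]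

theorem ht_of_mem {i : ι} (hi : i ∈ Δ) : h.ht i = 1 := by simp [ht, h.coeff_self hi]

theorem ht_pos {k : ι} (hk : k ∈ RootD.posOf P Δ) : 0 < h.ht k := by
  rw [h.mem_posOf_iff] at hk
  unfold ht Finsupp.sum
  exact Finset.sum_pos (fun a ha => lt_of_le_of_ne (hk a) (mem_support_iff.mp ha).symm)
    (Finsupp.support_nonempty_iff.mpr (h.coeff_ne_zero k))

theorem mem_posOf_iff_ht {k : ι} : k ∈ RootD.posOf P Δ ↔ 0 < h.ht k := by
  refine ⟨h.ht_pos, fun hk => (h.isPosSys_posOf.cover k).resolve_right fun hn => ?_⟩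
  have := h.ht_pos hn
  rw [h.ht_nr] at this
  omega

theorem exists_simple_pairing_pos {k : ι} (hk : k ∈ RootD.posOf P Δ) :
    ∃ i ∈ Δ, 0 < pz P k i ∧ 0 < h.coeff k i := by
  obtain ⟨l, hl, hlk⟩ := exists_list_of_mem_natSpan P (show P.root k ∈ RootD.natSpan P Δ from hk)
  have e : (2 : ℤ) = (h.coeff k).sum fun a n => n * pz P a k := by
    apply Int.cast_injective (α := R)
    rw [← coroot'_linearCombination, h.linearCombination_coeff]
    simp
  rw [h.mem_posOf_iff] at hk
  obtain ⟨a, ha, hpos⟩ : ∃ a ∈ (h.coeff k).support, 0 < h.coeff k a * pz P a k := by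
    by_contra! hc
    have : (h.coeff k).sum (fun a n => n * pz P a k) ≤ 0 := Finset.sum_nonpos hc
    omega
  have h1 : 0 < h.coeff k a := lt_of_le_of_ne (hk a) (mem_support_iff.mp ha).symm
  exact ⟨a, h.coeff_support k ha, (pz_pos_symm P).mp (pos_of_mul_pos_right hpos h1.le), h1⟩

theorem exists_smul_eq_of_indiv {k : ι} (hk : RootD.IsIndiv P k) :
    ∃ g ∈ Subgroup.closure (refl P '' Δ), ∃ i ∈ Δ, g • i = k := by
  suffices ∀ n : ℕ, ∀ k, k ∈ RootD.posOf P Δ → RootD.IsIndiv P k → (h.ht k).toNat = n →
      ∃ g ∈ Subgroup.closure (refl P '' Δ), ∃ i ∈ Δ, g • i = k by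
    rcases h.isPosSys_posOf.cover k with hp | hp
    · exact this _ k hp hk rfl
    · obtain ⟨g, hg, i, hi, hgi⟩ := this _ _ hp (isIndiv_nr P hk) rfl
      refine ⟨g * refl P i, mul_mem hg (Subgroup.subset_closure ⟨i, hi, rfl⟩), i, hi, ?_⟩
      rw [mul_smul, refl_smul, ← nr_nr P k, smul_nr, hgi]
  intro n
  induction n using Nat.strongRecOn with
  | ind n ih =>
    intro k hp hind hn
    obtain ⟨i, hi, hpos, -⟩ := h.exists_simple_pairing_pos hp
    rcases eq_or_ne k i with rfl | hne
    · exact ⟨1, one_mem _, k, hi, one_smul _ k⟩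
    have hp' := h.refl_smul_mem_posOf_of_indiv hi hp hne hind
    have hlt : h.ht (P.reflectionPerm i k) < h.ht k := by rw [h.ht_refl hi]; omega
    have := h.ht_pos hp'
    obtain ⟨g, hg, j, hj, hgj⟩ := ih (h.ht (P.reflectionPerm i k)).toNat (by omega) _ hp'
      (isIndiv_smul P (g := refl P i) hind) rfl
    exact ⟨refl P i * g, mul_mem (Subgroup.subset_closure ⟨i, hi, rfl⟩) hg, j, hj,
      by rw [mul_smul, hgj, refl_smul, reflectionPerm_self]⟩

theorem closure_refl_eq : Subgroup.closure (refl P '' Δ) = P.weylGroup := by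
  refine le_antisymm (Subgroup.closure_mono (image_subset_range _ _)) ?_
  have aux : ∀ k, RootD.IsIndiv P k → refl P k ∈ Subgroup.closure (refl P '' Δ) := fun k hk => by
    obtain ⟨g, hg, i, hi, rfl⟩ := h.exists_smul_eq_of_indiv hk
    rw [← conj_refl]
    exact mul_mem (mul_mem hg (Subgroup.subset_closure ⟨i, hi, rfl⟩)) (inv_mem hg)
  refine (Subgroup.closure_le _).mpr ?_
  rintro _ ⟨k, rfl⟩
  rcases indiv_or_eq_two_smul P k with hk | ⟨j, hj, hk⟩
  · exact aux k hk
  · exact (reflection_of_root_eq_two_smul P hk).symm ▸ aux j hj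

theorem exists_word {g : P.Aut} (hg : g ∈ P.weylGroup) :
    ∃ l : List ι, (∀ a ∈ l, a ∈ Δ) ∧ word P l = g :=
  exists_word_of_mem_closure (h.closure_refl_eq.symm ▸ hg)

/-- The exchange condition: a word sending its last letter to a positive root is not minimal. -/
theorem exists_shorter {l : List ι} (hl : ∀ a ∈ l, a ∈ Δ) {i : ι} (hi : i ∈ Δ)
    (hpos : word P l • i ∉ RootD.posOf P Δ) :
    ∃ l' : List ι, (∀ a ∈ l', a ∈ Δ) ∧ word P l' = word P (l ++ [i]) ∧
      l'.length + 1 = l.length := by
  induction l with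
  | nil => exact absurd (h.subset_posOf hi) (by simpa [word] using hpos)
  | cons a t ih =>
    have ha : a ∈ Δ := hl a (by simp)
    have ht : ∀ x ∈ t, x ∈ Δ := fun x hx => hl x (List.mem_cons_of_mem a hx)
    have hcons : ∀ t', word P (a :: t') = refl P a * word P t' := fun t' => by simp [word]
    by_cases hp : word P t • i ∈ RootD.posOf P Δ
    · have heq : word P t • i = a := by
        by_contra hne
        refine hpos ?_
        rw [hcons, mul_smul, refl_smul]
        exact h.refl_smul_mem_posOf_of_indiv ha hp hne (isIndiv_smul P (h.isIndiv hi))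
      refine ⟨t, ht, ?_, rfl⟩
      rw [List.cons_append, hcons, word_concat, ← heq, ← conj_refl]
      rw [mul_assoc (word P t * refl P i), inv_mul_cancel_left, mul_assoc, refl_mul_self, mul_one]
    · obtain ⟨t', ht', hw, hlen⟩ := ih ht hp
      refine ⟨a :: t', ?_, ?_, by simp [hlen]⟩
      · simpa [ha] using ht'
      · rw [List.cons_append, hcons, hcons, hw]

omit h in
/-- A word in `Δ` of minimal length among those with the same product. -/
def IsMinWord (P : RootPairing ι R M N) (Δ : Set ι) (l : List ι) : Prop :=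
  (∀ a ∈ l, a ∈ Δ) ∧
    ∀ l' : List ι, (∀ a ∈ l', a ∈ Δ) → word P l' = word P l → l.length ≤ l'.length

theorem exists_minWord {g : P.Aut} (hg : g ∈ P.weylGroup) :
    ∃ l, IsMinWord P Δ l ∧ word P l = g := by
  classical
  have hex : ∃ n, ∃ l : List ι, (∀ a ∈ l, a ∈ Δ) ∧ word P l = g ∧ l.length = n := by
    obtain ⟨l, hl, hlg⟩ := h.exists_word hg
    exact ⟨_, l, hl, hlg, rfl⟩
  obtain ⟨l, hl, hlg, hlen⟩ := Nat.find_spec hex
  refine ⟨l, ⟨hl, fun l' hl' heq => ?_⟩, hlg⟩
  rw [hlen]
  exact Nat.find_min' hex ⟨l', hl', heq.trans hlg, rfl⟩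

theorem minWord_last {l : List ι} {i : ι} (hm : IsMinWord P Δ (l ++ [i])) :
    word P l • i ∈ RootD.posOf P Δ ∧ word P (l ++ [i]) • i ∉ RootD.posOf P Δ := by
  have hi : i ∈ Δ := hm.1 i (by simp)
  have hpos : word P l • i ∈ RootD.posOf P Δ := by
    by_contra hn
    obtain ⟨l', hl', hw, hlen⟩ := h.exists_shorter (fun a ha => hm.1 a (by simp [ha])) hi hn
    have := hm.2 l' hl' hw
    simp at this
    omega
  refine ⟨hpos, ?_⟩
  rw [word_concat, mul_smul, refl_smul, smul_nr]
  exact h.isPosSys_posOf.disjoint hpos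

theorem minWord_dropLast {l : List ι} {i : ι} (hm : IsMinWord P Δ (l ++ [i])) :
    IsMinWord P Δ l := by
  refine ⟨fun a ha => hm.1 a (by simp [ha]), fun l' hl' heq => ?_⟩
  have := hm.2 (l' ++ [i]) (fun a ha => ?_) (by rw [word_concat, word_concat, heq])
  · simpa using this
  · rcases List.mem_append.mp ha with ha | ha
    · exact hl' a ha
    · exact hm.1 a (by simp [List.mem_singleton.mp ha])

theorem eq_one_of_smul_subset {g : P.Aut} (hg : g ∈ P.weylGroup)
    (hpos : ∀ i ∈ Δ, g • i ∈ RootD.posOf P Δ) : g = 1 := by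
  obtain ⟨l, hm, rfl⟩ := h.exists_minWord hg
  rcases l.eq_nil_or_concat' with rfl | ⟨t, i, rfl⟩
  · rfl
  · exact absurd (hpos i (hm.1 i (by simp))) (h.minWord_last hm).2

theorem smul_isSimple (g : P.Aut) : IsSimple P ((fun i => g • i) '' Δ) := by
  refine ⟨?_, fun k => ?_⟩
  · rw [← linearIndependent_set_coe_iff]
    have hli := h.linInd.linearIndependent.map_injOn (DistribSMul.toAddMonoidHom M g).toIntLinearMap
      (MulAction.injective g).injOn
    let e : Δ ≃ ↥((fun i => g • i) '' Δ) := (_root_.Equiv.Set.image _ Δ (MulAction.injective g))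
    rw [← linearIndependent_equiv e]
    convert hli using 1
    funext x
    exact (smul_root g x.1).symm
  · have key : ∀ x, x ∈ RootD.natSpan P Δ → g • x ∈ RootD.natSpan P ((fun i => g • i) '' Δ) := by
      intro x hx
      obtain ⟨l, hl, rfl⟩ := exists_list_of_mem_natSpan P hx
      rw [smul_list_sum, List.map_map]
      refine list_sum_mem fun y hy => ?_
      obtain ⟨a, ha, rfl⟩ := List.mem_map.mp hy
      simp only [comp_apply, smul_root]
      exact root_mem_natSpan P ⟨a, hl a ha, rfl⟩
    refine (h.mem_or_neg_mem (g⁻¹ • k)).imp (fun hk => ?_) (fun hk => ?_)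
    · simpa [smul_root] using key _ hk
    · simpa [smul_root] using key _ hk

theorem posOf_image (g : P.Aut) :
    RootD.posOf P ((fun i => g • i) '' Δ) = (fun i => g • i) '' RootD.posOf P Δ :=
  (h.smul_isSimple g).posOf_eq_of_subset (isPosSys_image g h.isPosSys_posOf)
    (image_mono h.subset_posOf)

end IsSimple

theorem exists_weylGroup_image_subset {S P' : Set ι} (hS : RootD.IsPosSys P S)
    (hP2 : ∀ i : ι, i ∈ P' ∨ nr P i ∈ P') (hcl : RootD.IsClosedSub P P') :
    ∃ g : P.Aut, g ∈ P.weylGroup ∧ (fun i : ι => g • i) '' S ⊆ P' := by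
  induction hn : (S \ P').ncard using Nat.strongRecOn generalizing S with
  | ind n ih =>
    by_cases hsub : simpleOf P S ⊆ P'
    · refine ⟨1, one_mem _, ?_⟩
      rintro _ ⟨k, hk, rfl⟩
      simpa using mem_of_closed_of_mem_natSpan hcl
        (natSpan_mono P hsub (mem_natSpan_simpleOf hS hk))
    obtain ⟨i, hi, hiP⟩ := not_subset.mp hsub
    have h := isSimple_simpleOf P hS
    have hneg : nr P i ∈ P' := (hP2 i).resolve_left hiP
    let S₁ := (fun k => refl P i • k) '' S
    have hlt : (S₁ \ P').ncard < n := by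
      rw [← hn]
      refine Set.ncard_lt_ncard ⟨?_, fun hh => ?_⟩ (Set.toFinite _)
      · rintro k ⟨hk, hkP⟩
        refine ⟨?_, hkP⟩
        rw [mem_image_smul, RootPairing.Equiv.reflection_inv, refl_smul] at hk
        by_contra hkS
        rw [← posOf_simpleOf hS] at hk hkS
        rcases eq_or_ne (P.reflectionPerm i k) i with e | e
        · have : k = nr P i := by rw [← P.reflectionPerm_self i k, e]
          exact hkP (this ▸ hneg)
        by_cases e2 : P.root (P.reflectionPerm i k) = (2 : ℤ) • P.root i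
        · refine hkP (hcl hneg hneg ?_)
          have h2 := congrArg (P.reflection i) e2
          rw [root_reflectionPerm, reflection_same, map_zsmul, RootPairing.reflection_apply_self] at h2
          rw [h2, root_nr, two_smul]
        · exact hkS (by simpa using h.refl_smul_mem_posOf hi hk e e2)
      · have := (hh ⟨simpleOf_subset S hi, hiP⟩).1
        rw [mem_image_smul, RootPairing.Equiv.reflection_inv, refl_smul] at this
        exact hS.disjoint (simpleOf_subset S hi) this
    obtain ⟨g, hg, hgS⟩ := ih _ hlt (isPosSys_image (refl P i) hS) rfl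
    refine ⟨g * refl P i, mul_mem hg (P.reflection_mem_weylGroup i), ?_⟩
    rintro _ ⟨k, hk, rfl⟩
    simp only [mul_smul]
    exact hgS ⟨_, ⟨k, hk, rfl⟩, rfl⟩

theorem exists_weylGroup_image_eq {S S' : Set ι} (hS : RootD.IsPosSys P S)
    (hS' : RootD.IsPosSys P S') :
    ∃ g : P.Aut, g ∈ P.weylGroup ∧ (fun i : ι => g • i) '' S = S' := by
  obtain ⟨g, hg, hsub⟩ := exists_weylGroup_image_subset hS hS'.cover (isPosSys_closed hS')
  exact ⟨g, hg, isPosSys_eq_of_subset (isPosSys_image g hS) hS' hsub⟩

theorem IsSimple.exists_weylGroup_image_eq {Δ Δ' : Set ι} (h : IsSimple P Δ) (h' : IsSimple P Δ') :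
    ∃ g : P.Aut, g ∈ P.weylGroup ∧ (fun i : ι => g • i) '' Δ = Δ' := by
  obtain ⟨g, hg, hgS⟩ := RootDatum.exists_weylGroup_image_eq h.isPosSys_posOf h'.isPosSys_posOf
  refine ⟨g, hg, ?_⟩
  rw [← (h.smul_isSimple g).simpleOf_posOf, h.posOf_image, hgS, h'.simpleOf_posOf]

end Crystallographic

end GrothLib.RootDatum
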