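import Groth.Agent.Lib.RootDatum.Length
import Groth.Agent.Lib.RootDatum.Cone
import Groth.Agent.Lib.RootDatum.Weyl

/-!
Maps of root data sending each root to a positive multiple of a root (isogenies).
-/

set_option linter.unusedSectionVars false
set_option linter.style.haveILetI false

namespace GrothLib.RootDatum

open Function Set Module RootPairing

variable {ι M N ι' M' N' : Type*} [AddCommGroup M] [AddCommGroup N] [AddCommGroup M'] [AddCommGroup N']
  {P : RootPairing ι ℤ M N} {P' : RootPairing ι' ℤ M' N'}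

theorem weylGroup_toPerm_injective {κ A B : Type*} [AddCommGroup A] [AddCommGroup B]
    (X : RootPairing κ ℤ A B) [Finite κ] :
    Injective fun w : X.weylGroup => MulAction.toPerm (α := X.Aut) (β := κ) (w : X.Aut) := by
  intro w w' e
  refine Subtype.ext (inv_mul_eq_one.mp (weylGroup_eq_one_of_fix (mul_mem (inv_mem w.2) w'.2) fun i => ?_))
  rw [mul_smul, inv_smul_eq_iff]
  exact (Equiv.congr_fun e i).symm

/-- The data of an isogeny of root pairings. -/
structure IsIsogeny (f : M' →ₗ[ℤ] M) (g : N →ₗ[ℤ] N') (u : ι ≃ ι') (q : ι → ℕ)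
    (P : RootPairing ι ℤ M N) (P' : RootPairing ι' ℤ M' N') : Prop where
  adj : ∀ (m' : M') (n : N), P.toLinearMap (f m') n = P'.toLinearMap m' (g n)
  q_pos : ∀ i, 0 < q i
  root : ∀ i : ι, f (P'.root (u i)) = (q i : ℤ) • P.root i
  coroot : ∀ i : ι, g (P.coroot i) = (q i : ℤ) • P'.coroot (u i)

variable {f : M' →ₗ[ℤ] M} {g : N →ₗ[ℤ] N'} {u : ι ≃ ι'} {q : ι → ℕ} (h : IsIsogeny f g u q P P')

namespace IsIsogeny

include h

theorem zq_pos (i : ι) : (0 : ℤ) < q i := Int.natCast_pos.mpr (h.q_pos i)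

theorem pairing_eq (a b : ι) : (q a : ℤ) * pz P a b = q b * pz P' (u a) (u b) := by
  have := h.adj (P'.root (u a)) (P.coroot b)
  rw [h.root, h.coroot] at this
  simpa [pz_eq_pairing] using this

variable [Finite ι] [Finite ι']

theorem eq_zero_of_f_eq_zero {v : M'} (hv : v ∈ Submodule.span ℤ (range P'.root)) (hfv : f v = 0) :
    v = 0 := by
  refine eq_zero_of_mem_span_of_coroot' P' hv fun b => ?_
  obtain ⟨b, rfl⟩ := u.surjective b
  have := h.adj v (P.coroot b)
  rw [hfv, h.coroot, map_zero, LinearMap.zero_apply, map_zsmul, smul_eq_mul, eq_comm, mul_eq_zero] at this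
  exact this.resolve_left (h.zq_pos b).ne'

variable [P.IsReduced]

theorem refl_compat (i j : ι) :
    q (P.reflectionPerm i j) = q j ∧ u (P.reflectionPerm i j) = P'.reflectionPerm (u i) (u j) := by
  set c := P.reflectionPerm i j
  obtain ⟨d, hd⟩ := u.surjective (P'.reflectionPerm (u i) (u j))
  have e : (q j : ℤ) • P.root c = (q d : ℤ) • P.root d := by
    rw [← h.root d, hd, root_refl P', map_sub, map_zsmul, h.root, h.root, root_refl P, smul_sub,
      smul_smul, smul_smul, h.pairing_eq j i, mul_comm (q i : ℤ)]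
  have := h.zq_pos j
  have := h.zq_pos d
  rcases proportional_cases P (h.zq_pos j).ne' e with
    ⟨e1, e2⟩ | ⟨-, e2⟩ | ⟨e1, -⟩ | ⟨-, e2⟩ | ⟨e1, -⟩ | ⟨-, e2⟩
  · rw [e1]
    exact ⟨by exact_mod_cast e2, hd⟩
  · omega
  · exact absurd e1 (not_two_smul_of_reduced _ _)
  · omega
  · exact absurd e1 (not_two_smul_of_reduced _ _)
  · omega

theorem u_nr (i : ι) : u (nr P i) = nr P' (u i) := (h.refl_compat i i).2

theorem q_smul {w : P.Aut} (hw : w ∈ P.weylGroup) : ∀ i : ι, q (w • i) = q i := by
  induction hw using RootPairing.weylGroup.induction with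
  | mem j => exact fun i => (h.refl_compat j i).1
  | one => exact fun i => by rw [one_smul]
  | mul x y _ _ hx hy => exact fun i => by rw [mul_smul, hx, hy]

theorem q_nr (i : ι) : q (nr P i) = q i := (h.refl_compat i i).1

theorem qf_rel (a b : ι) (hab : pz P a b ≠ 0) :
    ((q a : ℤ) ^ 2 * qf P a a) * qf P' (u b) (u b) = ((q b : ℤ) ^ 2 * qf P b b) * qf P' (u a) (u a) := by
  refine mul_left_cancel₀ hab ?_
  linear_combination ((q a : ℤ) * qf P' (u b) (u b) * qf P a a) * h.pairing_eq a b +
    ((q a : ℤ) * q b * qf P a a) * pz_mul_qf P' (u a) (u b) -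
    ((q b : ℤ) * qf P a a * qf P' (u a) (u a)) * h.pairing_eq b a -
    ((q b : ℤ) ^ 2 * qf P' (u a) (u a)) * pz_mul_qf P a b

omit [P.IsReduced] in
theorem exists_cofactor :
    ∃ (Q : ℕ) (c : ι → ℕ), 0 < Q ∧ (∀ a, 0 < c a) ∧ ∀ a, c a * q a = Q := by
  classical
  letI := Fintype.ofFinite ι
  exact ⟨∏ b, q b, fun a => ∏ b ∈ Finset.univ.erase a, q b, Finset.prod_pos fun b _ => h.q_pos b,
    fun a => Finset.prod_pos fun b _ => h.q_pos b, fun a => Finset.prod_erase_mul _ q (Finset.mem_univ a)⟩

omit [P.IsReduced] in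
theorem f_nsmul {Q : ℕ} {c : ι → ℕ} (hc : ∀ a, c a * q a = Q) (a : ι) :
    f (c a • P'.root (u a)) = Q • P.root a := by
  rw [map_nsmul, h.root, natCast_zsmul, ← mul_nsmul', hc]

omit [P.IsReduced] in
/-- Multiples of roots in a cone of `P` give multiples of roots in the image cone of `P'`. -/
theorem cone_of_cone {T : Set ι} {x : M} (hx : x ∈ RootD.natSpan P T) {Q : ℕ} {c : ι → ℕ}
    (hc : ∀ a, c a * q a = Q) : ∃ y ∈ RootD.natSpan P' (u '' T), f y = Q • x := by
  obtain ⟨l, hl, rfl⟩ := exists_list_of_mem_natSpan P hx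
  clear hx
  induction l with
  | nil => exact ⟨0, zero_mem _, by simp⟩
  | cons a t ih =>
    obtain ⟨y, hy, hyf⟩ := ih fun b hb => hl b (List.mem_cons_of_mem a hb)
    refine ⟨c a • P'.root (u a) + y,
      add_mem (nsmul_mem (root_mem_natSpan P' (mem_image_of_mem u (hl a (by simp)))) _) hy, ?_⟩
    rw [map_add, h.f_nsmul hc, hyf, List.map_cons, List.sum_cons, smul_add]

omit [P.IsReduced] in
theorem natSpan_of_natSpan {T : Set ι} {y : M'} (hy : y ∈ RootD.natSpan P' (u '' T)) :
    f y ∈ RootD.natSpan P T := by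
  induction hy using AddSubmonoid.closure_induction with
  | mem z hz =>
    obtain ⟨_, ⟨a, ha, rfl⟩, rfl⟩ := hz
    rw [h.root, natCast_zsmul]
    exact nsmul_mem (root_mem_natSpan P ha) _
  | zero => simp
  | add x y _ _ hx hy => rw [map_add]; exact add_mem hx hy

omit [P.IsReduced] in
theorem eq_of_f_eq {y y' : M'} (hy : y ∈ Submodule.span ℤ (range P'.root))
    (hy' : y' ∈ Submodule.span ℤ (range P'.root)) (e : f y = f y') : y = y' :=
  sub_eq_zero.mp (h.eq_zero_of_f_eq_zero (sub_mem hy hy') (by rw [map_sub, e, sub_self]))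

theorem isPosSys_image_iff (S : Set ι) : RootD.IsPosSys P S ↔ RootD.IsPosSys P' (u '' S) := by
  obtain ⟨Q, c, hQ, hc0, hc⟩ := h.exists_cofactor
  have hmem : ∀ a, u a ∈ u '' S ↔ a ∈ S := fun a => u.injective.mem_set_image
  have hspan : ∀ (T : Set ι'), (RootD.natSpan P' T : Set M') ⊆ Submodule.span ℤ (range P'.root) :=
    fun T => (natSpan_le_span P' T).trans (Submodule.span_mono (image_subset_range _ _))
  constructor <;> intro hS
  · refine isPosSys_of_closed ?_ (fun b => ?_) ?_
    · rintro _ ⟨a, ha, rfl⟩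
      rw [← h.u_nr, hmem]
      exact hS.disjoint ha
    · obtain ⟨a, rfl⟩ := u.surjective b
      rw [← h.u_nr, hmem, hmem]
      exact hS.cover a
    · rintro _ _ k' ⟨a, ha, rfl⟩ ⟨b, hb, rfl⟩ e
      obtain ⟨k, rfl⟩ := u.surjective k'
      refine (hmem k).mpr (hS.sat (q k) (h.q_pos k) ?_)
      have e' := congrArg f e
      rw [map_add, h.root, h.root, h.root, natCast_zsmul, natCast_zsmul, natCast_zsmul] at e'
      rw [e']
      exact add_mem (nsmul_mem (root_mem_natSpan P ha) _) (nsmul_mem (root_mem_natSpan P hb) _)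
  · refine ⟨fun a ha hn => ?_, fun a => ?_, fun k n hn hk => ?_⟩
    · refine hS.disjoint ((hmem a).mpr ha) ?_
      rw [show P'.reflectionPerm (u a) (u a) = u (nr P a) from (h.u_nr a).symm]
      exact (hmem _).mpr hn
    · simpa only [← hmem, show u (P.reflectionPerm a a) = _ from h.u_nr a] using hS.cover (u a)
    · obtain ⟨y, hy, hyf⟩ := h.cone_of_cone hk hc
      refine (hmem k).mp (hS.sat (n * c k) (Nat.mul_pos hn (hc0 k)) ?_)
      have : (n * c k) • P'.root (u k) = y := h.eq_of_f_eq
        ((Submodule.span ℤ (range P'.root)).toAddSubmonoid.nsmul_mem (Submodule.subset_span ⟨_, rfl⟩) _)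
        (hspan _ hy) (by rw [hyf, mul_nsmul', map_nsmul, h.f_nsmul hc, smul_comm])
      rwa [this]

theorem isSimple_image_iff [P'.IsReduced] (Δ : Set ι) : IsSimple P Δ ↔ IsSimple P' (u '' Δ) := by
  obtain ⟨Q, c, hQ, hc0, hc⟩ := h.exists_cofactor
  constructor <;> intro hΔ
  · refine isSimple_of_cone (fun i _ => isIndiv_of_reduced i) ?_ fun k' => ?_
    · rw [linearIndepOn_iff']
      intro t z ht hsum b hb
      have h0 := congrArg f hsum
      rw [map_sum, map_zero] at h0
      have h1 : ∑ a ∈ t.map u.symm.toEmbedding, (z (u a) * q a) • P.root a = 0 := by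
        rw [Finset.sum_map, ← h0]
        refine Finset.sum_congr rfl fun x _ => ?_
        obtain ⟨x, rfl⟩ := u.surjective x
        rw [map_zsmul, h.root, smul_smul]
        simp
      have := linearIndepOn_iff'.mp hΔ.linInd _ _ ?_ h1 (u.symm b) (Finset.mem_map_of_mem _ hb)
      · rw [u.apply_symm_apply, mul_eq_zero] at this
        exact this.resolve_right (h.zq_pos _).ne'
      · intro a ha
        obtain ⟨x, hx, rfl⟩ := Finset.mem_map.mp ha
        obtain ⟨a', ha', e⟩ := ht hx
        subst e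
        simpa using ha'
    · obtain ⟨k, rfl⟩ := u.surjective k'
      rcases hΔ.mem_or_neg_mem k with hk | hk <;> obtain ⟨y, hy, hyf⟩ := h.cone_of_cone hk hc
      · refine ⟨c k, hc0 k, Or.inl ?_⟩
        rwa [h.eq_of_f_eq ((Submodule.span ℤ (range P'.root)).toAddSubmonoid.nsmul_mem
          (Submodule.subset_span ⟨_, rfl⟩) _) (natSpan_le_span P' _ |>.trans
          (Submodule.span_mono (image_subset_range _ _)) hy) (by rw [hyf, h.f_nsmul hc])]
      · refine ⟨c k, hc0 k, Or.inr ?_⟩
        rwa [smul_neg, h.eq_of_f_eq (y' := y) (neg_mem ((Submodule.span ℤ (range P'.root)).toAddSubmonoid.nsmul_mem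
          (Submodule.subset_span ⟨_, rfl⟩) _)) (natSpan_le_span P' _ |>.trans
          (Submodule.span_mono (image_subset_range _ _)) hy) (by rw [hyf, map_neg, h.f_nsmul hc, smul_neg])]
  · refine isSimple_of_cone (fun i _ => isIndiv_of_reduced i) ?_ fun k => ?_
    · rw [linearIndepOn_iff']
      intro t z ht hsum a ha
      have h0 : ∑ b ∈ t, (z b * c b) • P'.root (u b) = 0 := by
        refine h.eq_zero_of_f_eq_zero
          (sum_mem fun b _ => Submodule.smul_mem _ _ (Submodule.subset_span ⟨_, rfl⟩)) ?_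
        have hb : ∀ b, f ((z b * c b) • P'.root (u b)) = (Q : ℤ) • z b • P.root b := fun b => by
          rw [map_zsmul, h.root, smul_smul, smul_smul, ← hc b]
          push_cast
          ring_nf
        rw [map_sum, Finset.sum_congr rfl fun b _ => hb b, ← Finset.smul_sum, hsum, smul_zero]
      have h1 : ∑ b ∈ t.map u.toEmbedding, (z (u.symm b) * c (u.symm b)) • P'.root b = 0 := by
        rw [Finset.sum_map, ← h0]
        simp
      have := linearIndepOn_iff'.mp hΔ.linInd _ _ ?_ h1 (u a) (Finset.mem_map_of_mem _ ha)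
      · simpa [(hc0 a).ne'] using this
      · intro b hb
        obtain ⟨x, hx, rfl⟩ := Finset.mem_map.mp hb
        exact ⟨x, ht hx, rfl⟩
    · rcases hΔ.mem_or_neg_mem (u k) with hk | hk <;> have := h.natSpan_of_natSpan hk
      · exact ⟨q k, h.q_pos k, Or.inl (by rwa [h.root, natCast_zsmul] at this)⟩
      · exact ⟨q k, h.q_pos k, Or.inr (by rwa [map_neg, h.root, natCast_zsmul, ← smul_neg] at this)⟩

theorem exists_weylEquiv [P'.IsReduced] :
    ∃ ubar : P.weylGroup ≃* P'.weylGroup,
      (∀ i : ι, ubar (RootPairing.weylGroup.ofIdx P i) = RootPairing.weylGroup.ofIdx P' (u i)) ∧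
      ∀ (w : P.weylGroup) (i : ι), u ((w : P.Aut) • i) = ((ubar w : P'.weylGroup) : P'.Aut) • u i := by
  -- the image of an element of the Weyl group, characterised on the indices
  have hex : ∀ w : P.weylGroup, ∃ w' : P'.weylGroup, ∀ i, u ((w : P.Aut) • i) = (w' : P'.Aut) • u i := by
    intro ⟨w, hw⟩
    induction hw using RootPairing.weylGroup.induction with
    | mem j => exact ⟨RootPairing.weylGroup.ofIdx P' (u j), fun i => (h.refl_compat j i).2⟩
    | one => exact ⟨1, fun i => by simp⟩
    | mul x y _ _ hx hy =>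
      obtain ⟨x', hx'⟩ := hx
      obtain ⟨y', hy'⟩ := hy
      exact ⟨x' * y', fun i => by simp only [mul_smul, Subgroup.coe_mul] at hx' hy' ⊢; rw [hx', hy']⟩
  choose F hF using hex
  have huniq : ∀ {w : P.weylGroup} {w' : P'.weylGroup},
      (∀ i, u ((w : P.Aut) • i) = (w' : P'.Aut) • u i) → F w = w' := fun {w w'} hw =>
    weylGroup_toPerm_injective P' (Equiv.ext fun b => by
      obtain ⟨i, rfl⟩ := u.surjective b
      exact (hF w i).symm.trans (hw i))
  let F' : P.weylGroup →* P'.weylGroup := MonoidHom.mk' F fun x y => huniq fun i => by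
    simp only [Subgroup.coe_mul, mul_smul, hF]
  have hbij : Bijective F' := by
    constructor
    · intro x y e
      refine weylGroup_toPerm_injective P (Equiv.ext fun i => u.injective ?_)
      change u ((x : P.Aut) • i) = u ((y : P.Aut) • i)
      rw [hF, hF, show F x = F y from e]
    · rintro ⟨w', hw'⟩
      induction hw' using RootPairing.weylGroup.induction with
      | mem b =>
        obtain ⟨j, rfl⟩ := u.surjective b
        exact ⟨RootPairing.weylGroup.ofIdx P j, huniq fun i => (h.refl_compat j i).2⟩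
      | one => exact ⟨1, map_one F'⟩
      | mul x y _ _ hx hy =>
        obtain ⟨a, ha⟩ := hx
        obtain ⟨b, hb⟩ := hy
        exact ⟨a * b, by rw [map_mul, ha, hb]; rfl⟩
  exact ⟨MulEquiv.ofBijective F' hbij, fun j => huniq fun i => (h.refl_compat j i).2, hF⟩

theorem qf_rel_of_indecomposable (hirr : IsIndecomposable P) (i j : ι) :
    ((q i : ℤ) ^ 2 * qf P i i) * qf P' (u j) (u j) = ((q j : ℤ) ^ 2 * qf P j j) * qf P' (u i) (u i) := by
  induction reach_of_indecomposable hirr i j with
  | refl => ring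
  | @tail b c _ hbc ih =>
    have := h.qf_rel b c (nonOrth_iff.mp hbc)
    refine mul_left_cancel₀ (qf_self_pos P' (u b)).ne' ?_
    linear_combination qf P' (u c) (u c) * ih + qf P' (u i) (u i) * this

end IsIsogeny

end GrothLib.RootDatum
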