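import Groth.Agent.Lib.RootDatum.Component

/-!
Lengths of roots: equal lengths, irreducible root data.
-/

set_option linter.unusedSectionVars false
set_option linter.style.haveILetI false

namespace GrothLib.RootDatum

open Function Set Module RootPairing

variable {ι R M N : Type*} [CommRing R] [AddCommGroup M] [Module R M] [AddCommGroup N] [Module R N]
  {P : RootPairing ι R M N} [Finite ι] [P.IsCrystallographic] [CharZero R] [IsDomain R]

theorem qf_eq_rootForm {ι M N : Type*} [AddCommGroup M] [AddCommGroup N] (P : RootPairing ι ℤ M N)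
    [Fintype ι] (i j : ι) : P.RootForm (P.root i) (P.root j) = qf P i j :=
  (cast_qf P i j).symm

/-- The relation of being non-orthogonal. -/
abbrev NonOrth (P : RootPairing ι R M N) (i j : ι) : Prop := ¬ P.IsOrthogonal i j

theorem nonOrth_iff {i j : ι} : NonOrth P i j ↔ pz P i j ≠ 0 := not_congr (isOrthogonal_iff P)

variable (P) in
/-- The root datum has no non-trivial partition into closed symmetric sets. -/
def IsIndecomposable : Prop :=
  ∀ R' : Set ι, RootD.IsClosedSub P R' → RootD.IsSymmSub P R' → RootD.IsClosedSub P R'ᶜ →
    RootD.IsSymmSub P R'ᶜ → R' = ∅ ∨ R' = Set.univ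

theorem reach_of_indecomposable (hirr : IsIndecomposable P) (i j : ι) :
    Relation.ReflTransGen (NonOrth P) i j := by
  have step : ∀ {a b}, Relation.ReflTransGen (NonOrth P) i a → pz P a b ≠ 0 →
      Relation.ReflTransGen (NonOrth P) i b := fun ha hab => ha.tail (nonOrth_iff.mpr hab)
  have hflip : ∀ {a b}, pz P a b ≠ 0 → pz P b a ≠ 0 := fun hab h0 => hab ((pz_eq_zero_iff P).mp h0)
  rcases hirr {k | Relation.ReflTransGen (NonOrth P) i k}
    (fun a b k ha hb e => (pz_ne_zero_or e).elim (fun h => step ha (hflip h)) (fun h => step hb (hflip h)))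
    (fun a ha => step ha (by rw [pz_nr_right, pz_same]; decide))
    (fun a b k ha hb e hk => (pz_ne_zero_or e).elim (fun h => ha (step hk h)) (fun h => hb (step hk h)))
    (fun a ha hn => ha (step hn (by rw [pz_nr_left, pz_same]; decide))) with e | e
  · exact absurd Relation.ReflTransGen.refl (Set.eq_empty_iff_forall_notMem.mp e i)
  · exact (Set.ext_iff.mp e j).mpr (mem_univ j)

theorem exists_smul_nonOrth (hirr : IsIndecomposable P) (i j : ι) :
    ∃ g : P.Aut, g ∈ P.weylGroup ∧ pz P (g • i) j ≠ 0 := by
  induction reach_of_indecomposable hirr i j with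
  | refl => exact ⟨1, one_mem _, by rw [one_smul, pz_same]; decide⟩
  | @tail b c _ hbc ih =>
    obtain ⟨g, hg, hgb⟩ := ih
    have hbc' := nonOrth_iff.mp hbc
    by_cases h : pz P (g • i) c = 0
    · refine ⟨refl P b * g, mul_mem (P.reflection_mem_weylGroup b) hg, ?_⟩
      rw [mul_smul, refl_smul]
      have : pz P (P.reflectionPerm b (g • i)) c = pz P (g • i) c - pz P (g • i) b * pz P b c :=
        pz_inj P (by
          rw [← root_coroot_eq_pairing, root_refl, map_sub, map_zsmul]
          simp [cast_pz, zsmul_eq_mul])
      rw [this, h, zero_sub, neg_ne_zero]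
      exact mul_ne_zero hgb hbc'
    · exact ⟨g, hg, h⟩

theorem exists_smul_eq_of_qf_eq {i j : ι} (hno : pz P i j ≠ 0) (hl : qf P i i = qf P j j) :
    ∃ g : P.Aut, g ∈ P.weylGroup ∧ g • i = j := by
  have he : pz P i j = pz P j i := by
    have := pz_mul_qf P i j
    rw [hl] at this
    exact mul_right_cancel₀ (qf_self_pos P j).ne' this
  have hsymm := pz_pair_mem P i j
  rw [← he] at hsymm
  simp only [mem_insert_iff, mem_singleton_iff, Prod.mk.injEq] at hsymm
  have hcase : pz P i j = 1 ∨ pz P i j = -1 ∨ pz P i j = 2 ∨ pz P i j = -2 := by omega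
  rcases hcase with h | h | h | h
  · refine ⟨refl P j * refl P i * refl P j, mul_mem (mul_mem (P.reflection_mem_weylGroup j)
      (P.reflection_mem_weylGroup i)) (P.reflection_mem_weylGroup j), P.root.injective ?_⟩
    rw [← smul_root]
    simp only [mul_smul, RootPairing.Equiv.reflection_smul, reflection_root, map_sub, map_zsmul,
      RootPairing.reflection_apply_self, h, ← he, one_smul, map_neg, pz_same]
    module
  · refine ⟨refl P i * refl P j, mul_mem (P.reflection_mem_weylGroup i)
      (P.reflection_mem_weylGroup j), P.root.injective ?_⟩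
    rw [← smul_root]
    simp only [mul_smul, RootPairing.Equiv.reflection_smul, reflection_root, map_sub, map_zsmul,
      RootPairing.reflection_apply_self, h, ← he, neg_smul, one_smul, map_neg, pz_same]
    module
  · have hij : i = j := by
      by_contra hne
      obtain ⟨k, hk⟩ := exists_root_sub P (by omega) hne
      have e1 : P.root i = P.root k + P.root j := by rw [hk]; abel
      have hki : pz P k i = 0 := by
        have := pz_add P e1 i
        rw [pz_same, ← he, h] at this
        omega
      have hkj : pz P k j = 0 := by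
        have := pz_add P e1 j
        rw [pz_same, h] at this
        omega
      have := pz_add P e1 k
      rw [pz_same, (pz_eq_zero_iff P).mp hki, (pz_eq_zero_iff P).mp hkj] at this
      omega
    exact ⟨1, one_mem _, by rw [one_smul, hij]⟩
  · refine ⟨refl P i, P.reflection_mem_weylGroup i, ?_⟩
    rw [refl_smul]
    by_contra hne
    have h2 : pz P (P.reflectionPerm i i) j = 2 := by rw [pz_nr_left, h]; rfl
    obtain ⟨k, hk⟩ := exists_root_sub P (by rw [h2]; norm_num) hne
    have e1 : P.root (nr P i) = P.root k + P.root j := by rw [hk]; abel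
    have hki : pz P k i = 0 := by
      have := pz_add P e1 i
      rw [pz_nr_left, pz_same, ← he, h] at this
      omega
    have hkj : pz P k j = 0 := by
      have := pz_add P e1 j
      rw [pz_nr_left, h, pz_same] at this
      omega
    have := pz_add P e1 k
    rw [pz_same, (pz_eq_zero_iff P).mp hkj, pz_nr_left, (pz_eq_zero_iff P).mp hki] at this
    omega

theorem not_two_smul_of_reduced [P.IsReduced] (i j : ι) : P.root i ≠ (2 : ℤ) • P.root j := by
  intro hk
  have hli : ¬ LinearIndependent R ![P.root i, P.root j] := by
    rw [LinearIndependent.pair_iff]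
    push Not
    exact ⟨-1, 2, by rw [hk, ← two_smul_eq]; simp, fun h0 => absurd h0 (by simp)⟩
  rcases IsReduced.eq_or_eq_neg i j hli with e | e
  · rw [hk, two_zsmul] at e
    exact root_ne_zero P j (by simpa using e)
  · rw [hk] at e
    have e3 : (3 : ℤ) • P.root j = (3 : ℤ) • (0 : M) := by
      rw [smul_zero, show (3 : ℤ) = 2 + 1 from rfl, add_smul, e, one_smul, neg_add_cancel]
    exact root_ne_zero P j (zsmul_inj P (by norm_num) e3)

theorem isIndiv_of_reduced [P.IsReduced] (i : ι) : RootD.IsIndiv P i :=
  (isIndiv_iff P i).mpr (not_two_smul_of_reduced i)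

/-- In a reduced datum the squared lengths of non-orthogonal roots have ratio 1, 2 or 3. -/
theorem qf_ratio_of_reduced [P.IsReduced] {i j : ι} (h : pz P i j ≠ 0) :
    qf P i i = qf P j j ∨ qf P i i = 2 * qf P j j ∨ qf P i i = 3 * qf P j j ∨
    qf P j j = 2 * qf P i i ∨ qf P j j = 3 * qf P i i := by
  have hm := pz_pair_mem P i j
  have he := pz_mul_qf P i j
  simp only [mem_insert_iff, mem_singleton_iff, Prod.mk.injEq] at hm
  have hprop : ∀ {a b : ι}, pz P a b * pz P b a = 4 → pz P b a • P.root a = (2 : ℤ) • P.root b := by
    intro a b h4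
    have : Module.IsReflexive R M := .of_isPerfPair P.toLinearMap
    have hd : ¬ LinearIndependent R ![P.root a, P.root b] :=
      (RootPairing.coxeterWeight_eq_four_iff_not_linearIndependent (P := P) (i := a) (j := b)).mp (by
        rw [RootPairing.coxeterWeight, ← cast_pz, ← cast_pz]; exact_mod_cast h4)
    have := P.pairing_smul_root_eq_of_not_linearIndependent hd
    rwa [← cast_pz, Int.cast_smul_eq_zsmul, two_smul_eq] at this
  rcases hm with e | e | e | e | e | e | e | e | e | e | e | e | e | e | e | e | e
  all_goals rw [e.1, e.2] at he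
  all_goals first
    | omega
    | (exfalso
       have h4 := hprop (a := i) (b := j) (by rw [e.1, e.2]; norm_num)
       rw [e.2] at h4
       rcases proportional_cases P (two_ne_zero) h4.symm with c | c | c | c | c | c
       all_goals first
         | omega
         | exact absurd c.1 (not_two_smul_of_reduced _ _)
         | exact absurd (by rw [c.1, root_nr]; simp) (not_two_smul_of_reduced j (nr P i))
         | exact absurd (by rw [c.1, root_nr]; simp) (not_two_smul_of_reduced i (nr P j)))

end GrothLib.RootDatum
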