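import Mathlib.LinearAlgebra.RootSystem.Base
import Mathlib.LinearAlgebra.QuadraticForm.Basic

/-!
Quadratic forms on the coweight space that are invariant under coreflections.
-/

namespace GrothLib.RootDatum

open Function Set Module RootPairing

variable {ι R M N : Type*} [CommRing R] [AddCommGroup M] [Module R M] [AddCommGroup N] [Module R N]
  (P : RootPairing ι R M N) (Q : QuadraticMap R N R)

theorem root'_coroot_self (j : ι) : P.root' j (P.coroot j) = 2 :=
  P.root_coroot_two j

theorem map_coreflection (j : ι) (y : N) :
    Q (P.coreflection j y) =
      Q y - P.root' j y * (QuadraticMap.polar Q y (P.coroot j) - P.root' j y * Q (P.coroot j)) := by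
  rw [coreflection_apply, sub_eq_add_neg, ← neg_smul, QuadraticMap.map_add Q y, QuadraticMap.polar_smul_right,
    Q.map_smul, smul_eq_mul, smul_eq_mul]
  ring

/-- Invariance under a coreflection on a subspace is a condition on the polar form. -/
theorem invariant_iff [IsDomain R] [CharZero R] (S : Submodule R N) {j : ι} (hj : P.coroot j ∈ S) :
    (∀ y ∈ S, Q (P.coreflection j y) = Q y) ↔
      ∀ y ∈ S, QuadraticMap.polar Q y (P.coroot j) = P.root' j y * Q (P.coroot j) := by
  constructor
  · intro h y hy
    have aux : ∀ z ∈ S, P.root' j z ≠ 0 →
        QuadraticMap.polar Q z (P.coroot j) = P.root' j z * Q (P.coroot j) := fun z hz hne => by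
      have := h z hz
      rw [map_coreflection, sub_eq_self, mul_eq_zero] at this
      exact sub_eq_zero.mp (this.resolve_left hne)
    by_cases h0 : P.root' j y = 0
    · have h2 : P.root' j (y + P.coroot j) ≠ 0 := by
        rw [map_add, h0, zero_add, root'_coroot_self]; exact two_ne_zero
      have := aux _ (add_mem hy hj) h2
      rw [QuadraticMap.polar_add_left, map_add, add_mul,
        aux _ hj (by rw [root'_coroot_self]; exact two_ne_zero)] at this
      exact add_right_cancel this
    · exact aux y hy h0
  · intro h y hy
    rw [map_coreflection, h y hy, sub_self, mul_zero, sub_zero]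

theorem coreflection_reflectionPerm (j k : ι) (y : N) :
    P.coreflection (P.reflectionPerm j k) y = P.coreflection j (P.coreflection k (P.coreflection j y)) := by
  have h := P.flip.reflection_reflectionPerm (i := k) (j := j)
  exact LinearEquiv.congr_fun h y

end GrothLib.RootDatum
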