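import Groth.Agent.Lib.RootDatum.Basic
import Mathlib.LinearAlgebra.RootSystem.Finite.CanonicalBilinear
import Mathlib.LinearAlgebra.FreeModule.PID
import Mathlib.LinearAlgebra.Dual.Basis

/-!
Ranks of the root and coroot lattices of root data over `ℤ`.
-/

set_option linter.unusedSectionVars false
set_option linter.style.haveILetI false

namespace GrothLib.RootDatum

open Function Set Module RootPairing

variable {ι M N : Type*} [AddCommGroup M] [AddCommGroup N] (P : RootPairing ι ℤ M N) [Finite ι]

theorem ker_pi_coroot' : LinearMap.ker (LinearMap.pi P.coroot') = ⨅ i, LinearMap.ker (P.coroot' i) :=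
  LinearMap.ker_pi _

theorem ker_polarization [Fintype ι] :
    LinearMap.ker P.Polarization = ⨅ i, LinearMap.ker (P.coroot' i) := by
  ext x
  simp only [LinearMap.mem_ker, Submodule.mem_iInf]
  refine ⟨fun h i => ?_, fun h => by simp [h]⟩
  have h0 : ∑ q, P.coroot' q x * P.coroot' q x = 0 := by
    have := congrArg (P.toLinearMap x) h
    simpa using this
  exact mul_self_eq_zero.mp
    ((Finset.sum_eq_zero_iff_of_nonneg fun q _ => mul_self_nonneg (P.coroot' q x)).mp h0 i (Finset.mem_univ i))

theorem ker_pi_disjoint :
    Disjoint (Submodule.span ℤ (range P.root)) (⨅ i, LinearMap.ker (P.coroot' i)) := by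
  rw [Submodule.disjoint_def]
  intro x hx h
  simp only [Submodule.mem_iInf, LinearMap.mem_ker] at h
  exact eq_zero_of_mem_span_of_coroot' P hx h

variable [Module.Finite ℤ M] [Module.Finite ℤ N]

include P in
theorem free_weight : Module.Free ℤ M :=
  have := torsionFree P
  inferInstance

theorem root_le_quot :
    finrank ℤ (Submodule.span ℤ (range P.root)) ≤ finrank ℤ (M ⧸ ⨅ i, LinearMap.ker (P.coroot' i)) :=
  LinearMap.finrank_le_finrank_of_injective
    (f := (Submodule.mkQ _).comp (Submodule.span ℤ (range P.root)).subtype) (by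
      rw [injective_iff_map_eq_zero]
      rintro ⟨x, hx⟩ h
      simp only [LinearMap.comp_apply, Submodule.subtype_apply, Submodule.mkQ_apply,
        Submodule.Quotient.mk_eq_zero] at h
      exact Subtype.ext (Submodule.disjoint_def.mp (ker_pi_disjoint P) x hx h))

theorem quot_le_coroot :
    finrank ℤ (M ⧸ ⨅ i, LinearMap.ker (P.coroot' i)) ≤ finrank ℤ (Submodule.span ℤ (range P.coroot)) := by
  haveI := Fintype.ofFinite ι
  rw [← ker_polarization, LinearEquiv.finrank_eq P.Polarization.quotKerEquivRange]
  refine Submodule.finrank_mono ?_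
  rintro _ ⟨x, rfl⟩
  rw [Polarization_apply]
  exact Submodule.sum_mem _ fun i _ => Submodule.smul_mem _ _ (Submodule.subset_span ⟨i, rfl⟩)

theorem finrank_root_eq_coroot :
    finrank ℤ (Submodule.span ℤ (range P.root)) = finrank ℤ (Submodule.span ℤ (range P.coroot)) :=
  le_antisymm ((root_le_quot P).trans (quot_le_coroot P))
    ((root_le_quot P.flip).trans (quot_le_coroot P.flip))

theorem finrank_iInf_ker_add :
    finrank ℤ (⨅ i, LinearMap.ker (P.coroot' i) : Submodule ℤ M) +
      finrank ℤ (Submodule.span ℤ (range P.root)) = finrank ℤ M := by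
  rw [← (⨅ i, LinearMap.ker (P.coroot' i) : Submodule ℤ M).finrank_quotient_add_finrank,
    add_comm, Nat.add_right_cancel_iff]
  exact le_antisymm (root_le_quot P) ((quot_le_coroot P).trans (finrank_root_eq_coroot P).ge)

include P in
theorem finrank_weight_eq_coweight : finrank ℤ N = finrank ℤ M := by
  classical
  have := free_weight P
  rw [P.flip.toPerfPair.finrank_eq]
  exact ((Free.chooseBasis ℤ M).toDualEquiv).finrank_eq.symm

theorem finrank_root_eq_iff :
    finrank ℤ (Submodule.span ℤ (range P.root)) = finrank ℤ M ↔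
      (⨅ i, LinearMap.ker (P.coroot' i) : Submodule ℤ M) = ⊥ := by
  have := torsionFree P
  rw [← finrank_iInf_ker_add P, ← Submodule.finrank_eq_zero (R := ℤ)]
  omega

end GrothLib.RootDatum
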