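import Groth.Agent.Lib.RootDatum.Weyl

/-!
The image of a simple root under an element of a rank two parabolic subgroup.
-/

set_option linter.unusedSectionVars false

namespace GrothLib.RootDatum

open Function Set Module RootPairing

variable {ι R M N : Type*} [CommRing R] [CharZero R] [IsDomain R] [AddCommGroup M] [Module R M]
  [AddCommGroup N] [Module R N] {P : RootPairing ι R M N} [Finite ι] [P.IsCrystallographic]

theorem smul_sub_mem_span {T : Set ι} {v : P.Aut} (hv : v ∈ Subgroup.closure (refl P '' T)) :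
    ∀ x : M, (∀ q, ∃ z : ℤ, P.coroot' q x = z) →
      v • x - x ∈ Submodule.span ℤ (P.root '' T) ∧ ∀ q, ∃ z : ℤ, P.coroot' q (v • x) = z := by
  obtain ⟨l, hl, rfl⟩ := exists_word_of_mem_closure hv
  clear hv
  induction l with
  | nil => intro x hx; simp [word]; exact hx
  | cons a t ih =>
    intro x hx
    obtain ⟨h1, h2⟩ := ih (fun y hy => hl y (List.mem_cons_of_mem a hy)) x hx
    obtain ⟨z, hz⟩ := h2 a
    have e : word P (a :: t) • x = word P t • x - z • P.root a := by
      rw [show word P (a :: t) = refl P a * word P t by simp [word], mul_smul,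
        RootPairing.Equiv.reflection_smul, RootPairing.reflection_apply, hz, Int.cast_smul_eq_zsmul]
    refine ⟨?_, fun q => ?_⟩
    · rw [e, sub_right_comm]
      exact sub_mem h1 (Submodule.smul_mem _ _ (Submodule.subset_span ⟨a, hl a (by simp), rfl⟩))
    · obtain ⟨y, hy⟩ := h2 q
      exact ⟨y - z * pz P a q, by rw [e, map_sub, map_zsmul, hy]; simp [cast_pz]⟩



theorem IsSimple.smul_mem_pair {Δ : Set ι} (h : IsSimple P Δ) {α γ β : ι} (hα : α ∈ Δ) (hγ : γ ∈ Δ)
    (hβ : β ∈ Δ) (hγα : γ ≠ α) {v g : P.Aut} (hv : v ∈ Subgroup.closure (refl P '' {α, γ}))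
    (hp₁ : g • α ∈ RootD.posOf P Δ) (hp₂ : g • γ ∈ RootD.posOf P Δ) (hvβ : g • (v • α) = β) :
    v • α = α ∨ v • α = γ := by
  classical
        have hint : ∀ q, ∃ z : ℤ, P.coroot' q (P.root α) = z := fun q => ⟨pz P α q, by simp [cast_pz]⟩
  obtain ⟨hspan, -⟩ := smul_sub_mem_span hv _ hint
  rw [Set.image_pair, smul_root] at hspan
  obtain ⟨a', c, hac⟩ := Submodule.mem_span_pair.mp hspan
  obtain ⟨a, ha⟩ : ∃ a : ℤ, a = a' + 1 := ⟨_, rfl⟩
  have hsum : P.root (v • α) = a • P.root α + c • P.root γ := by
    rw [ha, add_smul, one_smul, add_right_comm, hac, sub_add_cancel]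
  have hβ' := hvβ
  have himg : P.root β = a • P.root (g • α) + c • P.root (g • γ) := by
    rw [← hβ', ← smul_root, hsum, smul_add, smul_comm _ a, smul_comm _ c, smul_root, smul_root]
  have hcoef : h.coeff (v • α) = a • h.coeff α + c • h.coeff γ := by
    refine (h.eq_coeff ?_ ?_).symm
    · intro x hx
      by_contra hn'
      exact Finsupp.mem_support_iff.mp hx (by simp [h.coeff_notMem hn'])
    · rw [map_add, map_zsmul, map_zsmul, h.linearCombination_coeff, h.linearCombination_coeff, hsum]
  have hht : h.ht β = a * h.ht (g • α) + c * h.ht (g • γ) := by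
    have : h.coeff β = a • h.coeff (g • α) + c • h.coeff (g • γ) := by
      refine (h.eq_coeff ?_ ?_).symm
      · intro x hx
        by_contra hn'
        exact Finsupp.mem_support_iff.mp hx (by simp [h.coeff_notMem hn'])
      · rw [map_add, map_zsmul, map_zsmul, h.linearCombination_coeff, h.linearCombination_coeff, himg]
    simp only [IsSimple.ht, this]
    rw [Finsupp.sum_add_index' (fun _ => rfl) (fun _ _ _ => rfl), Finsupp.sum_smul_index' (fun _ => rfl),
      Finsupp.sum_smul_index' (fun _ => rfl), Finsupp.mul_sum, Finsupp.mul_sum]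
    simp
  have hp1 := h.ht_pos hp₁
  have hp2 := h.ht_pos hp₂
  rw [h.ht_of_mem hβ] at hht
  -- both coefficients have the same sign
  have hca : (h.coeff (v • α)) α = a := by
    simp [hcoef, h.coeff_self hα, h.coeff_self hγ, Finsupp.single_eq_of_ne hγα.symm]
  have hcc : (h.coeff (v • α)) γ = c := by
    simp [hcoef, h.coeff_self hα, h.coeff_self hγ, Finsupp.single_eq_of_ne hγα]
  rcases h.coeff_nonneg_or_nonpos (v • α) with hs | hs
  · have h1 := hs α
    have h2 := hs γ
    rw [hca] at h1
    rw [hcc] at h2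
    have h3 : a ≤ a * h.ht (g • α) := le_mul_of_one_le_right h1 hp1
    have h4 : c ≤ c * h.ht (g • γ) := le_mul_of_one_le_right h2 hp2
    have h5 : a = 0 ∧ c = 1 ∨ a = 1 ∧ c = 0 := by
      rcases eq_or_ne a 0 with h0 | h0
      · left
        have hc0 : c ≠ 0 := by rintro rfl; simp [h0] at hht
        rw [h0, zero_mul, zero_add] at hht
        exact ⟨h0, by omega⟩
      · right; omega
    rcases h5 with ⟨rfl, rfl⟩ | ⟨rfl, rfl⟩
    · right; exact P.root.injective (by simpa using hsum)
    · left; exact P.root.injective (by simpa using hsum)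
  · have h1 := hs α
    have h2 := hs γ
    rw [hca] at h1
    rw [hcc] at h2
    nlinarith

end GrothLib.RootDatum
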